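import Groth.Agent.Lefpen.H703.Elim
import Mathlib.Algebra.MvPolynomial.PDeriv
import Mathlib.RingTheory.MvPolynomial.Homogeneous
import Mathlib.RingTheory.MvPolynomial.EulerIdentity

/-!
# Nondegeneracy of quadratic forms is a Zariski-open condition

* `isPolyFun_eval_linear`: evaluation `(v, w) ↦ L(w)(v)` is a polynomial function, for `L` linear with values in polynomials.
* `SingFree Q`: the polynomial `Q` and its partial derivatives have no common zero except the origin.
* `isZOpen_singFree`: for forms of any degree this is a Zariski-open condition.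
* `exists_idealOfVars_pow_le`: a power of the ideal of the variables is contained in the ideal generated by `Q` and its
  partial derivatives.
-/

set_option autoImplicit false

universe u

open MvPolynomial

namespace Groth.Agent.Lefpen.H703.NondegOpen

open LefPen Groth.Agent.Lefpen.H703.ZOpen Groth.Agent.Lefpen.H703.Elim

variable {k : Type u} [Field k]

instance finite_form (r d : ℕ) : Module.Finite k (Form r k d) :=
  Module.Finite.iff_fg.mpr (homogeneousSubmodule_fg _ _ d)

/-- Evaluation is a polynomial function of the point and of the polynomial. -/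
theorem isPolyFun_eval_linear {V : Type u} [AddCommGroup V] [Module k V] [FiniteDimensional k V] {m : ℕ}
    (L : V →ₗ[k] MvPolynomial (Fin m) k) :
    IsPolyFun k (fun p : (Fin m → k) × V => eval p.1 (L p.2)) := by
  let b := Module.finBasis k V
  have h : (fun p : (Fin m → k) × V => eval p.1 (L p.2)) =
      fun p => ∑ i, b.repr p.2 i * eval p.1 (L (b i)) := by
    ext p
    conv_lhs => rw [← b.sum_repr p.2, map_sum, map_sum]
    refine Finset.sum_congr rfl fun i _ => ?_
    rw [map_smul, smul_eval]
  rw [h]
  refine pf_sum _ fun i _ => pf_mul ?_ ?_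
  · exact isPolyFun_linear' (V := (Fin m → k) × V)
      ((Finsupp.lapply i).comp (b.repr.toLinearMap.comp (LinearMap.snd k (Fin m → k) V)))
  · exact isPolyFun_eval _ fun j =>
      isPolyFun_linear' (V := (Fin m → k) × V) ((LinearMap.proj j).comp (LinearMap.fst k (Fin m → k) V))

/-- Evaluation at a fixed polynomial point. -/
theorem isPolyFun_eval_linear_const {V : Type u} [AddCommGroup V] [Module k V] {m : ℕ}
    (L : V →ₗ[k] MvPolynomial (Fin m) k) (v : Fin m → k) :
    IsPolyFun k (fun w : V => eval v (L w)) :=
  isPolyFun_linear' (V := V) ((aeval v).toLinearMap.comp L)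

/-- The polynomial `Q` and its partial derivatives have no common zero except possibly the origin. -/
def SingFree {m : ℕ} (Q : MvPolynomial (Fin m) k) : Prop :=
  ∀ v : Fin m → k, v ≠ 0 → eval v Q ≠ 0 ∨ ∃ l, eval v (pderiv l Q) ≠ 0

theorem isHomogeneous_pderiv {m : ℕ} {Q : MvPolynomial (Fin m) k} {d : ℕ} (hQ : Q.IsHomogeneous d) (l : Fin m) :
    (pderiv l Q).IsHomogeneous (d - 1) := IsHomogeneous.pderiv hQ

theorem isZOpen_singFree_aux [IsAlgClosed k] {V : Type u} [AddCommGroup V] [Module k V] [FiniteDimensional k V]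
    {m : ℕ} (L : V →ₗ[k] MvPolynomial (Fin m) k) (d : ℕ) (hL : ∀ w, (L w).IsHomogeneous d) :
    IsZOpen k {w : V | SingFree (L w)} := by
  let O : Set ((Fin m → k) × V) := {p | eval p.1 (L p.2) ≠ 0} ∪
    ⋃ l : Fin m, {p | eval p.1 (pderiv l (L p.2)) ≠ 0}
  have hO : IsZOpen k O := by
    refine zo_union (isZOpen_basic (isPolyFun_eval_linear L)) (isZOpen_iUnion fun l => ?_)
    exact isZOpen_basic (isPolyFun_eval_linear ((pderiv l).toLinearMap.comp L))
  have h := isZOpen_forall_ne_zero hO (fun v w c hc h => ?_)
  · refine (isZOpen_congr fun w => ?_).1 h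
    simp only [O, Set.mem_union, Set.mem_iUnion]
    rfl
  · simp only [O, Set.mem_union, Set.mem_iUnion] at h ⊢
    rcases h with h | ⟨l, h⟩
    · left
      change eval (c • v) (L w) ≠ 0
      rw [eval_smul_of_isHomogeneous (hL w)]
      exact mul_ne_zero (pow_ne_zero _ hc) h
    · right
      refine ⟨l, ?_⟩
      change eval (c • v) (pderiv l (L w)) ≠ 0
      rw [eval_smul_of_isHomogeneous (isHomogeneous_pderiv (hL w) l)]
      exact mul_ne_zero (pow_ne_zero _ hc) h

/-- Forms of degree `d` whose zero scheme has smooth affine cone away from the origin: an open condition. -/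
theorem isZOpen_singFree [IsAlgClosed k] (m d : ℕ) :
    IsZOpen k {Q : Form m k d | SingFree Q.1} :=
  isZOpen_singFree_aux (Submodule.subtype _) d fun w => (mem_homogeneousSubmodule _ _).1 w.2

/-- A power of the irrelevant ideal is contained in the ideal of `Q` and its partials. -/
theorem exists_idealOfVars_pow_le [IsAlgClosed k] {m : ℕ} {Q : MvPolynomial (Fin m) k} (hQ : SingFree Q) :
    ∃ M : ℕ, idealOfVars (Fin m) k ^ M ≤ Ideal.span ({Q} ∪ Set.range fun l => pderiv l Q) := by
  refine Ideal.exists_pow_le_of_le_radical_of_fg ?_ (idealOfVars_fg _ _)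
  rw [← vanishingIdeal_zeroLocus_eq_radical (K := k), idealOfVars, Ideal.span_le]
  rintro _ ⟨i, rfl⟩
  intro v hv
  have hv0 : v = 0 := by
    by_contra hv0
    rcases hQ v hv0 with h | ⟨l, h⟩
    · exact h (by simpa [aeval_eq_eval] using hv Q (Ideal.subset_span (Or.inl rfl)))
    · exact h (by simpa [aeval_eq_eval] using hv _ (Ideal.subset_span (Or.inr ⟨l, rfl⟩)))
  rw [hv0]
  simp

end Groth.Agent.Lefpen.H703.NondegOpen
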