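import Groth.Agent.Lefpen.H702.LocAlg
import Groth.Agent.Lefpen.H705.PointCoord

/-!
# Closed points of projective space and their affine coordinates

For a point `x` of `P^r_k` in the chart `D_+(T_j)`, `chartGerm j x hx : k[x_1, …, x_r] →+* O_{P,x}`.

* `exists_coords`: at a closed point there is `a : Fin r → k` with `chartGerm p ∈ 𝔪_x ^ n ↔ p ∈ (ptIdeal a) ^ n`.
* `exists_closed_point`: every `a` occurs.
-/

set_option autoImplicit false
universe u

open CategoryTheory AlgebraicGeometry Limits TopologicalSpace Opposite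

namespace Groth.Agent.Lefpen.H703.PtCoord

open LefPen IsLocalRing Groth.Agent.Lefpen.H705.HypIdeal Groth.Agent.Lefpen.H705.ChartPoly
open Groth.Agent.Lefpen.H702.AffAlg Groth.Agent.Lefpen.H702.LocAlg
open Groth.Agent.Sga5

variable {r : ℕ} {k : Type u} [Field k]

theorem comap_pow_of_bijective {A B : Type*} [CommRing A] [CommRing B] (f : A →+* B)
    (hf : Function.Bijective f) (M : Ideal B) (n : ℕ) : (M ^ n).comap f = (M.comap f) ^ n := by
  have h1 : (M.comap f).map f = M := Ideal.map_comap_of_surjective f hf.2 M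
  conv_lhs => rw [← h1, ← Ideal.map_pow]
  rw [Ideal.comap_map_of_bijective f hf]

/-- Polynomials in the affine coordinates as germs at a point of projective space. -/
noncomputable def chartGerm (j : Fin (r + 1)) (x : CohB1.ProjSpace r k) (hx : x ∈ LefPen.chart r k j) :
    MvPolynomial (Fin r) k →+* (CohB1.ProjSpace r k).presheaf.stalk x :=
  ((CohB1.ProjSpace r k).presheaf.germ (LefPen.chart r k j) x hx).hom.comp (polyToChart j)

/-- Closed points: powers of the maximal ideal pulled back to polynomials. -/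
theorem comap_chartGerm_pow (j : Fin (r + 1)) (x : CohB1.ProjSpace r k) (hx : x ∈ LefPen.chart r k j)
    (hc : IsClosed ({x} : Set (CohB1.ProjSpace r k))) (n : ℕ) :
    (maximalIdeal ((CohB1.ProjSpace r k).presheaf.stalk x) ^ n).comap (chartGerm j x hx) =
      ((maximalIdeal ((CohB1.ProjSpace r k).presheaf.stalk x)).comap (chartGerm j x hx)) ^ n ∧
      ((maximalIdeal ((CohB1.ProjSpace r k).presheaf.stalk x)).comap (chartGerm j x hx)).IsMaximal := by
  have hU := isAffineOpen_chart (r := r) (k := k) j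
  let _ := (CohB1.ProjSpace r k).presheaf.algebra_section_stalk (⟨x, hx⟩ : LefPen.chart r k j)
  have hloc : IsLocalization.AtPrime ((CohB1.ProjSpace r k).presheaf.stalk x)
      (hU.primeIdealOf ⟨x, hx⟩).asIdeal := hU.isLocalization_stalk ⟨x, hx⟩
  have hM : (hU.primeIdealOf ⟨x, hx⟩).asIdeal.IsMaximal := hU.primeIdealOf_isMaximal_of_isClosed ⟨x, hx⟩ hc
  have h1 : ∀ n, (maximalIdeal ((CohB1.ProjSpace r k).presheaf.stalk x) ^ n).comap
      ((CohB1.ProjSpace r k).presheaf.germ (LefPen.chart r k j) x hx).hom =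
      (hU.primeIdealOf ⟨x, hx⟩).asIdeal ^ n := fun n =>
    comap_maximalIdeal_pow (A := Γ(CohB1.ProjSpace r k, LefPen.chart r k j))
      (O := (CohB1.ProjSpace r k).presheaf.stalk x) (hU.primeIdealOf ⟨x, hx⟩).asIdeal n
  have h2 : (maximalIdeal ((CohB1.ProjSpace r k).presheaf.stalk x)).comap
      ((CohB1.ProjSpace r k).presheaf.germ (LefPen.chart r k j) x hx).hom =
      (hU.primeIdealOf ⟨x, hx⟩).asIdeal := by
    have := h1 1
    rwa [pow_one, pow_one] at this
  constructor
  · rw [chartGerm, ← Ideal.comap_comap, ← Ideal.comap_comap, h1, h2,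
      comap_pow_of_bijective _ (polyToChart_bijective j)]
  · rw [chartGerm, ← Ideal.comap_comap, h2]
    exact Ideal.comap_isMaximal_of_surjective _ (polyToChart_bijective j).2

theorem exists_coords [IsAlgClosed k] (j : Fin (r + 1)) (x : CohB1.ProjSpace r k)
    (hx : x ∈ LefPen.chart r k j) (hc : IsClosed ({x} : Set (CohB1.ProjSpace r k))) :
    ∃ a : Fin r → k, ∀ (n : ℕ) (p : MvPolynomial (Fin r) k),
      chartGerm j x hx p ∈ maximalIdeal ((CohB1.ProjSpace r k).presheaf.stalk x) ^ n ↔ p ∈ ptIdeal a ^ n := by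
  have hM := (comap_chartGerm_pow j x hx hc 1).2
  obtain ⟨a, ha⟩ := MvPolynomial.isMaximal_iff_eq_vanishingIdeal_singleton.1 hM
  refine ⟨a, fun n p => ?_⟩
  rw [← Ideal.mem_comap, (comap_chartGerm_pow j x hx hc n).1, ha]
  have h1 : MvPolynomial.vanishingIdeal k {a} = ptIdeal a := by
    ext q
    rw [mem_ptIdeal_iff, MvPolynomial.mem_vanishingIdeal_singleton_iff]
    simp
  rw [h1]

/-- The point of the chart attached to a prime ideal of the polynomial ring. -/
theorem chart_mem (j : Fin (r + 1)) (z : Spec (CommRingCat.of (MvPolynomial (Fin r) k))) :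
    ProjSmooth.chart r k j z ∈ LefPen.chart r k j := by
  rw [LefPen.chart, ← ProjSmooth.opensRange_chart]
  exact ⟨z, rfl⟩

theorem chartGerm_mem_iff (j : Fin (r + 1)) (z : Spec (CommRingCat.of (MvPolynomial (Fin r) k)))
    (p : MvPolynomial (Fin r) k) :
    chartGerm j (ProjSmooth.chart r k j z) (chart_mem j z) p ∈
      maximalIdeal ((CohB1.ProjSpace r k).presheaf.stalk (ProjSmooth.chart r k j z)) ↔ p ∈ z.asIdeal := by
  rw [← not_iff_not, mem_maximalIdeal, mem_nonunits_iff, not_not]
  have h1 : IsUnit (chartGerm j (ProjSmooth.chart r k j z) (chart_mem j z) p) ↔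
      ProjSmooth.chart r k j z ∈ (CohB1.ProjSpace r k).basicOpen (polyToChart j p) :=
    ((CohB1.ProjSpace r k).mem_basicOpen _ _ (chart_mem j z)).symm
  rw [h1]
  have h2 : z ∈ (ProjSmooth.chart r k j) ⁻¹ᵁ ((CohB1.ProjSpace r k).basicOpen (polyToChart j p)) ↔
      ProjSmooth.chart r k j z ∈ (CohB1.ProjSpace r k).basicOpen (polyToChart j p) := Iff.rfl
  rw [← h2, Scheme.preimage_basicOpen]
  have h3 : (Spec (CommRingCat.of (MvPolynomial (Fin r) k))).basicOpen
      (((ProjSmooth.chart r k j).appLE (LefPen.chart r k j) ⊤ (top_le_preimage j)).hom (polyToChart j p)) =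
      (Spec (CommRingCat.of (MvPolynomial (Fin r) k))).basicOpen
        (((ProjSmooth.chart r k j).app (LefPen.chart r k j)).hom (polyToChart j p)) := by
    have h4 : ((ProjSmooth.chart r k j).appLE (LefPen.chart r k j) ⊤ (top_le_preimage j)).hom (polyToChart j p) =
        ((Spec (CommRingCat.of (MvPolynomial (Fin r) k))).presheaf.map (homOfLE (top_le_preimage j)).op).hom
          (((ProjSmooth.chart r k j).app (LefPen.chart r k j)).hom (polyToChart j p)) := rfl
    rw [h4, Scheme.basicOpen_res, top_inf_eq]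
  rw [← h3, chart_appLE_polyToChart, basicOpen_eq_of_affine']
  simp only [Iso.inv_hom_id_apply]
  exact Iff.rfl

theorem exists_closed_point (j : Fin (r + 1)) (a : Fin r → k) :
    ∃ (x : CohB1.ProjSpace r k) (hx : x ∈ LefPen.chart r k j), IsClosed ({x} : Set (CohB1.ProjSpace r k)) ∧
      ∀ (n : ℕ) (p : MvPolynomial (Fin r) k),
        chartGerm j x hx p ∈ maximalIdeal ((CohB1.ProjSpace r k).presheaf.stalk x) ^ n ↔ p ∈ ptIdeal a ^ n := by
  let z : Spec (CommRingCat.of (MvPolynomial (Fin r) k)) := ⟨ptIdeal a, (isMaximal_ptIdeal a).isPrime⟩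
  have hz : IsClosed ({z} : Set (Spec (CommRingCat.of (MvPolynomial (Fin r) k)))) :=
    (PrimeSpectrum.isClosed_singleton_iff_isMaximal z).2 (isMaximal_ptIdeal a)
  have hsm : SmoothOfRelativeDimension r (CohB1.ProjSpace.toSpec r k) := ProjSmooth.smooth_toSpec r k
  have hsm' : Smooth (CohB1.ProjSpace.toSpec r k) := SmoothOfRelativeDimension.smooth r _
  have hJ : JacobsonSpace (CohB1.ProjSpace r k) :=
    LocallyOfFiniteType.jacobsonSpace (CohB1.ProjSpace.toSpec r k)
  have hc : IsClosed ({ProjSmooth.chart r k j z} : Set (CohB1.ProjSpace r k)) := by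
    have h1 := (ProjSmooth.chart r k j).isOpenEmbedding.preimage_closedPoints
    have h2 : z ∈ closedPoints (Spec (CommRingCat.of (MvPolynomial (Fin r) k))) := hz
    rw [← h1] at h2
    exact h2
  refine ⟨ProjSmooth.chart r k j z, chart_mem j z, hc, fun n p => ?_⟩
  rw [← Ideal.mem_comap, (comap_chartGerm_pow j _ (chart_mem j z) hc n).1]
  have h3 : (maximalIdeal ((CohB1.ProjSpace r k).presheaf.stalk (ProjSmooth.chart r k j z))).comap
      (chartGerm j (ProjSmooth.chart r k j z) (chart_mem j z)) = ptIdeal a := by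
    ext q
    rw [Ideal.mem_comap, chartGerm_mem_iff]
  rw [h3]

end Groth.Agent.Lefpen.H703.PtCoord
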