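import Groth.Agent.Lefpen.H703.TransCrit
import Groth.Agent.Lefpen.H703.PtCoord
import Groth.Agent.Lefpen.H703.NondegOpen
import Groth.Agent.CurvesC.RegNormal
import Groth.Agent.Sga5.ProjReg
import Mathlib.Algebra.MvPolynomial.Funext

/-!
# The criterion for nondegeneracy of a quadratic form (`LefPen.NondegQuad`)

* `singular_iff_pow`: `stalkEqn` of a form on `P^m` at a closed point, in terms of values and partial derivatives.
* `smooth_hyp_iff`: for a nonzero form `G` of degree `d ≥ 1` on `P^m` (`m ≥ 1`), `V_+(G)` is smooth over `k` iff `G` and its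
  partial derivatives have no common zero except the origin.
* `nondegQuad_iff : NondegQuad k Q ↔ Q.1 ≠ 0 ∧ SingFree Q.1`.
* `isZOpen_nondegQuad`, `nondegQuad_smul_iff`, `nondegQuad_of_linear_equiv`.
-/

set_option autoImplicit false
universe u

open CategoryTheory AlgebraicGeometry Limits TopologicalSpace Opposite

namespace Groth.Agent.Lefpen.H703.NondegQuadCrit

open LefPen IsLocalRing Groth.Agent.Lefpen.H705.HypIdeal Groth.Agent.Lefpen.H705.ChartPoly
open Groth.Agent.Lefpen.H705.SecIdeal Groth.Agent.Lefpen.H705.ClosedPoint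
open Groth.Agent.Lefpen.H702.AffAlg Groth.Agent.Lefpen.H703.TransCrit Groth.Agent.Lefpen.H703.PtCoord
open Groth.Agent.Lefpen.H703.NondegOpen Groth.Agent.Lefpen.H703.RegCrit Groth.Agent.Lefpen.H703.Elim
open Groth.Agent.Sga5

section Alg

/-- If `P` is regular local and `P/(q)` is regular with `q ∈ 𝔪²`, then `q = 0`. -/
theorem eq_zero_of_regular_quotient {P B : Type*} [CommRing P] [CommRing B] [IsRegularLocalRing P]
    [IsRegularLocalRing B] (φ : P →+* B) (hφ : Function.Surjective φ) (q : P)
    (hker : RingHom.ker φ = Ideal.span {q}) (hq : q ∈ maximalIdeal P ^ 2) : q = 0 := by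
  have : IsDomain P := Groth.Agent.CurvesC.RegNormal.isDomain P
  by_contra hne
  have h1 := Groth.Agent.Sga5.ProjReg.ringKrullDim_eq_succ φ hφ q (mem_nonZeroDivisors_of_ne_zero hne) hker
  have h2 := isLinIndep_of_isRegularLocalRing_quotient (fun _ : Fin 1 => q)
    (fun _ => Ideal.pow_le_self two_ne_zero hq) φ hφ (by rw [hker, Set.range_const])
    (by rw [h1]; rfl) (fun _ => 1) (by simpa using hq) 0
  exact (Ideal.ne_top_iff_one _).1 (maximalIdeal.isMaximal P).ne_top h2

variable {k : Type*} [Field k]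

/-- The point with homogeneous coordinates obtained by inserting `1` at place `j`. -/
def hcoord {r : ℕ} (j : Fin (r + 1)) (a : Fin r → k) : Fin (r + 1) → k :=
  j.insertNth (α := fun _ => k) 1 a

theorem eval_dehom {r : ℕ} {k : Type u} [Field k] (j : Fin (r + 1)) (a : Fin r → k)
    (P : MvPolynomial (Fin (r + 1)) k) :
    MvPolynomial.eval a (ProjChart.dehom r k j P) = MvPolynomial.eval (hcoord j a) P := by
  have h : (MvPolynomial.eval a).comp (ProjChart.dehom r k j) = MvPolynomial.eval (hcoord j a) := by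
    apply MvPolynomial.ringHom_ext
    · intro c; simp
    · intro l
      rw [RingHom.comp_apply, MvPolynomial.eval_X, hcoord]
      obtain rfl | ⟨l, rfl⟩ := Fin.eq_self_or_eq_succAbove j l
      · simp
      · simp
  exact congr($h P)

theorem pderiv_dehom {r : ℕ} {k : Type u} [Field k] (j : Fin (r + 1)) (l : Fin r)
    (P : MvPolynomial (Fin (r + 1)) k) :
    MvPolynomial.pderiv l (ProjChart.dehom r k j P) =
      ProjChart.dehom r k j (MvPolynomial.pderiv (j.succAbove l) P) := by
  induction P using MvPolynomial.induction_on with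
  | C c => simp
  | add p q hp hq => simp [hp, hq]
  | mul_X p n hp =>
    rw [map_mul, Derivation.leibniz, Derivation.leibniz, map_add, hp]
    simp only [smul_eq_mul, map_mul]
    congr 1
    congr 1
    obtain rfl | ⟨n, rfl⟩ := Fin.eq_self_or_eq_succAbove j n
    · rw [ProjChart.dehom_X_self, MvPolynomial.pderiv_X_of_ne (Fin.succAbove_ne _ _).symm]
      simp
    · rw [ProjChart.dehom_X]
      by_cases h : n = l
      · subst h; simp
      · rw [MvPolynomial.pderiv_X_of_ne h, MvPolynomial.pderiv_X_of_ne (fun h' => h (Fin.succAbove_right_injective h'))]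
        simp

/-- Membership of a dehomogenized form in the square of the ideal of a point: value and partial derivatives, all
of them by Euler's identity. -/
theorem dehom_mem_ptIdeal_sq_iff {r : ℕ} {k : Type u} [Field k] (j : Fin (r + 1)) (a : Fin r → k) {d : ℕ}
    {P : MvPolynomial (Fin (r + 1)) k} (hP : P.IsHomogeneous d) :
    ProjChart.dehom r k j P ∈ ptIdeal a ^ 2 ↔
      MvPolynomial.eval (hcoord j a) P = 0 ∧ ∀ l, MvPolynomial.eval (hcoord j a) (MvPolynomial.pderiv l P) = 0 := by
  rw [mem_ptIdeal_sq_iff, eval_dehom]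
  simp_rw [pderiv_dehom, eval_dehom]
  refine and_congr_right fun h0 => ⟨fun h l => ?_, fun h l => h _⟩
  obtain rfl | ⟨l, rfl⟩ := Fin.eq_self_or_eq_succAbove j l
  · have h1 := congrArg (MvPolynomial.eval (hcoord l a)) (hP.sum_X_mul_pderiv)
    rw [map_sum, map_nsmul, h0, smul_zero] at h1
    rw [Finset.sum_eq_single l] at h1
    · rw [map_mul, MvPolynomial.eval_X] at h1
      have h2 : hcoord l a l = 1 := by simp [hcoord]
      rwa [h2, one_mul] at h1
    · intro b _ hb
      obtain ⟨b, rfl⟩ := Fin.exists_succAbove_eq hb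
      rw [map_mul, h b, mul_zero]
    · intro h; exact absurd (Finset.mem_univ _) h
  · exact h l

theorem eq_zero_of_forall_dehom {r : ℕ} {k : Type u} [Field k] [Infinite k] (j : Fin (r + 1)) {d : ℕ}
    {P : MvPolynomial (Fin (r + 1)) k} (hP : P.IsHomogeneous d) (h : ProjChart.dehom r k j P = 0) : P = 0 := by
  have h1 : MvPolynomial.X j * P = 0 := by
    refine MvPolynomial.funext fun v => ?_
    rw [map_mul, MvPolynomial.eval_X, map_zero]
    by_cases hv : v j = 0
    · rw [hv, zero_mul]
    · have h2 : v = v j • hcoord j (fun l => (v j)⁻¹ * v (j.succAbove l)) := by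
        funext l
        obtain rfl | ⟨l, rfl⟩ := Fin.eq_self_or_eq_succAbove j l
        · simp [hcoord]
        · simp [hcoord, mul_inv_cancel_left₀ hv]
      rw [h2, eval_smul_of_isHomogeneous hP, ← eval_dehom, h, map_zero, mul_zero, mul_zero]
  rcases mul_eq_zero.1 h1 with h2 | h2
  · exact absurd h2 (MvPolynomial.X_ne_zero j)
  · exact h2

theorem exists_hcoord {r : ℕ} {k : Type u} [Field k] (v : Fin (r + 1) → k) (hv : v ≠ 0) :
    ∃ (j : Fin (r + 1)) (a : Fin r → k), v j ≠ 0 ∧ v = v j • hcoord j a := by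
  obtain ⟨j, hj⟩ := Function.ne_iff.1 hv
  refine ⟨j, fun l => (v j)⁻¹ * v (j.succAbove l), hj, ?_⟩
  funext l
  obtain rfl | ⟨l, rfl⟩ := Fin.eq_self_or_eq_succAbove j l
  · simp [hcoord]
  · have hj' : v j ≠ 0 := hj
    simp [hcoord, mul_inv_cancel_left₀ hj']

theorem hcoord_ne_zero {r : ℕ} (j : Fin (r + 1)) (a : Fin r → k) : hcoord j a ≠ 0 := by
  intro h
  have := congrFun h j
  simp [hcoord] at this

end Alg

variable {m : ℕ} {k : Type u} [Field k] {d : ℕ}

instance smoothOfRelativeDimension_str : SmoothOfRelativeDimension m (str (𝟙 (CohB1.ProjSpace m k))) := by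
  rw [str, Category.id_comp]
  exact ProjSmooth.smooth_toSpec m k

theorem stalkEqn_id (j : Fin (m + 1)) (x : CohB1.ProjSpace m k) (hx : x ∈ LefPen.chart m k j) (G : Form m k d) :
    stalkEqn (𝟙 (CohB1.ProjSpace m k)) j x hx G = chartGerm j x hx (ProjChart.dehom m k j G.1) := by
  rw [stalkEqn, dehom_eq]
  have h := Scheme.Hom.stalkMap_id (CohB1.ProjSpace m k) x
  exact congr($(h).hom (((CohB1.ProjSpace m k).presheaf.germ (LefPen.chart m k j) x hx).hom
    (polyToChart j (ProjChart.dehom m k j G.1))))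

theorem secIdeal_id (G : Form m k d) : secIdeal (𝟙 (CohB1.ProjSpace m k)) {G} = hypIdeal G := by
  rw [secIdeal, Scheme.IdealSheafData.comap_id, iSup_singleton]

variable [IsAlgClosed k]

/-- No singular closed points on `V_+(G)` in terms of the homogeneous coordinates. -/
theorem forall_notMem_sq_iff (G : Form m k d) :
    (∀ x : CohB1.ProjSpace m k, IsClosed ({x} : Set (CohB1.ProjSpace m k)) → ∀ (j : Fin (m + 1))
      (hj : x ∈ LefPen.chart m k j), stalkEqn (𝟙 (CohB1.ProjSpace m k)) j x hj G ∉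
        maximalIdeal ((CohB1.ProjSpace m k).presheaf.stalk x) ^ 2) ↔ SingFree G.1 := by
  have hG : G.1.IsHomogeneous d := (MvPolynomial.mem_homogeneousSubmodule _ _).1 G.2
  constructor
  · intro h v hv
    obtain ⟨j, a, hj, hva⟩ := exists_hcoord v hv
    obtain ⟨x, hx, hc, hx2⟩ := exists_closed_point j a
    have h1 := h x hc j hx
    rw [stalkEqn_id, hx2, dehom_mem_ptIdeal_sq_iff j a hG] at h1
    by_contra hcon
    push Not at hcon
    apply h1
    obtain ⟨h2, h3⟩ := hcon
    rw [hva, eval_smul_of_isHomogeneous hG] at h2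
    refine ⟨(mul_eq_zero.1 h2).resolve_left (pow_ne_zero _ hj), fun l => ?_⟩
    have h4 := h3 l
    rw [hva, eval_smul_of_isHomogeneous (isHomogeneous_pderiv hG l)] at h4
    exact (mul_eq_zero.1 h4).resolve_left (pow_ne_zero _ hj)
  · intro h x hc j hj hmem
    obtain ⟨a, ha⟩ := exists_coords j x hj hc
    rw [stalkEqn_id, ha, dehom_mem_ptIdeal_sq_iff j a hG] at hmem
    rcases h (hcoord j a) (hcoord_ne_zero j a) with h1 | ⟨l, h1⟩
    · exact h1 hmem.1
    · exact h1 (hmem.2 l)

/-- Smoothness of a hypersurface in projective space (Jacobian criterion). -/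
theorem smooth_hyp_iff (hm : 1 ≤ m) (G : Form m k d) (hG0 : G.1 ≠ 0) :
    Smooth ((hypIdeal G).subschemeι ≫ CohB1.ProjSpace.toSpec m k) ↔ SingFree G.1 := by
  have : Infinite k := IsAlgClosed.instInfinite
  have hG : G.1.IsHomogeneous d := (MvPolynomial.mem_homogeneousSubmodule _ _).1 G.2
  have hsm : Smooth (str (𝟙 (CohB1.ProjSpace m k))) := SmoothOfRelativeDimension.smooth m _
  have h0 : Smooth ((hypIdeal G).subschemeι ≫ CohB1.ProjSpace.toSpec m k) ↔
      Smooth (secToSpec (𝟙 (CohB1.ProjSpace m k)) {G}) := by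
    rw [← secIdeal_id G, secToSpec, Category.id_comp]
  rw [h0, ← forall_notMem_sq_iff G]
  constructor
  · intro hS x hc j hj hmem
    obtain ⟨y, rfl⟩ := exists_sec_point (𝟙 (CohB1.ProjSpace m k)) {G} j x hj (by
      intro G' hG'
      rw [Set.mem_singleton_iff.1 hG']
      exact Ideal.pow_le_self two_ne_zero hmem)
    have hreg : IsRegularLocalRing ((Sec (𝟙 (CohB1.ProjSpace m k)) {G}).presheaf.stalk y) :=
      isRegularLocalRing_stalk (secToSpec (𝟙 (CohB1.ProjSpace m k)) {G}) y
    have hregX : IsRegularLocalRing ((CohB1.ProjSpace m k).presheaf.stalk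
        (secι (𝟙 (CohB1.ProjSpace m k)) {G} y)) :=
      isRegularLocalRing_stalk (str (𝟙 (CohB1.ProjSpace m k))) _
    have hker := ker_stalkMap_secι (𝟙 (CohB1.ProjSpace m k)) {G} y j hj
    rw [Set.image_singleton] at hker
    have h1 := eq_zero_of_regular_quotient _ (stalkMap_secι_surjective (𝟙 (CohB1.ProjSpace m k)) {G} y) _ hker hmem
    rw [stalkEqn_id] at h1
    obtain ⟨a, ha⟩ := exists_coords j _ hj hc
    have h2 : ProjChart.dehom m k j G.1 ∈ (⨅ n : ℕ, ptIdeal a ^ n : Ideal _) := by
      rw [Ideal.mem_iInf]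
      intro n
      rw [← ha n, h1]
      exact zero_mem _
    rw [Ideal.iInf_pow_eq_bot_of_isDomain _ (isMaximal_ptIdeal a).ne_top] at h2
    exact hG0 (eq_zero_of_forall_dehom j hG h2)
  · intro h
    have h1 : Transversal k m 1 (secToSpec (𝟙 (CohB1.ProjSpace m k)) ({G} : Set (Form m k d))) :=
      (transversal_one_iff (𝟙 (CohB1.ProjSpace m k)) m G).2 h
    rcases h1 with ⟨-, h2⟩ | ⟨h2, -⟩
    · exact SmoothOfRelativeDimension.smooth (m - 1) _
    · omega

theorem singFree_of_zero {Q : MvPolynomial (Fin (0 + 1)) k} (hQ : Q.IsHomogeneous d) (hQ0 : Q ≠ 0) : SingFree Q := by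
  have : Infinite k := IsAlgClosed.instInfinite
  have : Subsingleton (Fin (0 + 1)) := inferInstanceAs (Subsingleton (Fin 1))
  intro v hv
  left
  intro h
  apply hQ0
  refine MvPolynomial.funext fun w => ?_
  have hv0 : v 0 ≠ 0 := by
    intro h0
    apply hv
    funext l
    rw [Subsingleton.elim l 0]
    exact h0
  have h1 : w = (w 0 * (v 0)⁻¹) • v := by
    funext l
    rw [Subsingleton.elim l 0, Pi.smul_apply, smul_eq_mul, mul_assoc, inv_mul_cancel₀ hv0, mul_one]
  rw [h1, eval_smul_of_isHomogeneous hQ, h, mul_zero, map_zero]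

/-- **Nondegeneracy criterion**, in every characteristic. -/
theorem nondegQuad_iff (Q : Form m k 2) : NondegQuad k Q ↔ Q.1 ≠ 0 ∧ SingFree Q.1 := by
  rw [NondegQuad]
  refine and_congr_right fun h0 => ?_
  rcases Nat.eq_zero_or_pos m with hm | hm
  · subst hm
    exact ⟨fun _ => singFree_of_zero ((MvPolynomial.mem_homogeneousSubmodule _ _).1 Q.2) h0, fun _ => Or.inl rfl⟩
  · rw [← smooth_hyp_iff hm Q h0]
    exact ⟨fun h => h.resolve_left hm.ne', Or.inr⟩

/-- Nondegenerate quadratic forms form a Zariski-open set. -/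
theorem isZOpen_nondegQuad (m : ℕ) : IsZOpen k {Q : Form m k 2 | NondegQuad k Q} := by
  refine (ZOpen.isZOpen_congr fun Q => ?_).1
    (ZOpen.zo_inter (isZOpen_ne_zero (k := k) (E := Form m k 2)) (isZOpen_singFree (k := k) m 2))
  change (Q ≠ 0 ∧ SingFree Q.1) ↔ NondegQuad k Q
  rw [nondegQuad_iff, ne_eq, ne_eq, ← Subtype.coe_inj]
  rfl

omit [IsAlgClosed k] in
theorem sum_pderiv_mul {n : ℕ} (v w : Fin n → k) (P R : MvPolynomial (Fin n) k) :
    (∑ l, w l * MvPolynomial.eval v (MvPolynomial.pderiv l (P * R))) =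
      MvPolynomial.eval v P * (∑ l, w l * MvPolynomial.eval v (MvPolynomial.pderiv l R)) +
      MvPolynomial.eval v R * (∑ l, w l * MvPolynomial.eval v (MvPolynomial.pderiv l P)) := by
  rw [Finset.mul_sum, Finset.mul_sum, ← Finset.sum_add_distrib]
  refine Finset.sum_congr rfl fun l _ => ?_
  rw [Derivation.leibniz, smul_eq_mul, smul_eq_mul, map_add, map_mul, map_mul]
  ring

omit [IsAlgClosed k] in
theorem sum_pderiv_X {n : ℕ} (v w : Fin n → k) (i : Fin n) :
    (∑ l, w l * MvPolynomial.eval v (MvPolynomial.pderiv l (MvPolynomial.X i : MvPolynomial (Fin n) k))) = w i := by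
  rw [Finset.sum_eq_single i]
  · simp
  · intro b _ hb
    rw [MvPolynomial.pderiv_X_of_ne (Ne.symm hb), map_zero, mul_zero]
  · intro h; exact absurd (Finset.mem_univ _) h

omit [IsAlgClosed k] in
/-- The expansion of a quadratic form: `Q(v + w) = Q(v) + ∑ w_l ∂_l Q(v) + Q(w)`. -/
theorem eval_add_quad {n : ℕ} {Q : MvPolynomial (Fin n) k} (hQ : Q.IsHomogeneous 2) (v w : Fin n → k) :
    MvPolynomial.eval (v + w) Q = MvPolynomial.eval v Q +
      (∑ l, w l * MvPolynomial.eval v (MvPolynomial.pderiv l Q)) + MvPolynomial.eval w Q := by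
  have hQ' : Q ∈ (MvPolynomial.homogeneousSubmodule (Fin n) k 1) ^ 2 := by
    rw [MvPolynomial.homogeneousSubmodule_one_pow]
    exact (MvPolynomial.mem_homogeneousSubmodule _ _).2 hQ
  rw [pow_two, MvPolynomial.homogeneousSubmodule_one_eq_span_X, Submodule.span_mul_span] at hQ'
  clear hQ
  induction hQ' using Submodule.span_induction with
  | mem x hx =>
    obtain ⟨_, ⟨i, rfl⟩, _, ⟨j, rfl⟩, rfl⟩ := Set.mem_mul.1 hx
    rw [sum_pderiv_mul, sum_pderiv_X, sum_pderiv_X]
    simp only [map_mul, MvPolynomial.eval_X, Pi.add_apply]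
    ring
  | zero => simp
  | add x y _ _ hx hy =>
    simp only [map_add, mul_add, Finset.sum_add_distrib, hx, hy]
    ring
  | smul c x _ hx =>
    have h1 : (∑ l, w l * MvPolynomial.eval v (MvPolynomial.pderiv l (c • x))) =
        c * ∑ l, w l * MvPolynomial.eval v (MvPolynomial.pderiv l x) := by
      rw [Finset.mul_sum]
      refine Finset.sum_congr rfl fun l _ => ?_
      rw [Derivation.map_smul, MvPolynomial.smul_eval]
      ring
    rw [MvPolynomial.smul_eval, MvPolynomial.smul_eval, MvPolynomial.smul_eval, h1, hx]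
    ring

omit [IsAlgClosed k] in
/-- Coordinate-free form of `SingFree` for quadratic forms: no nonzero isotropic vector in the radical of the polar
form. -/
theorem singFree_iff_polar {n : ℕ} {Q : MvPolynomial (Fin n) k} (hQ : Q.IsHomogeneous 2) :
    SingFree Q ↔ ∀ v : Fin n → k, v ≠ 0 → MvPolynomial.eval v Q ≠ 0 ∨
      ∃ w, MvPolynomial.eval (v + w) Q ≠ MvPolynomial.eval v Q + MvPolynomial.eval w Q := by
  refine forall_congr' fun v => imp_congr_right fun hv => or_congr_right ?_
  constructor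
  · rintro ⟨l, hl⟩
    refine ⟨Pi.single l 1, ?_⟩
    rw [eval_add_quad hQ, Finset.sum_eq_single l]
    · rw [Pi.single_eq_same, one_mul]
      intro h
      apply hl
      linear_combination h
    · intro b _ hb
      rw [Pi.single_eq_of_ne hb, zero_mul]
    · intro h; exact absurd (Finset.mem_univ _) h
  · rintro ⟨w, hw⟩
    by_contra hcon
    push Not at hcon
    apply hw
    rw [eval_add_quad hQ, Finset.sum_eq_zero (fun l _ => by rw [hcon l, mul_zero]), add_zero]

omit [IsAlgClosed k] in
/-- Invariance of `SingFree` under an injective linear substitution and nonzero scalars, for quadratic forms. -/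
theorem singFree_of_linear {n n' : ℕ} {Q : MvPolynomial (Fin n) k} {Q' : MvPolynomial (Fin n') k}
    (hQ : Q.IsHomogeneous 2) (hQ' : Q'.IsHomogeneous 2) (L : (Fin n' → k) ≃ₗ[k] (Fin n → k)) (c : k) (hc : c ≠ 0)
    (h : ∀ v, MvPolynomial.eval v Q' = c * MvPolynomial.eval (L v) Q) (hS : SingFree Q) : SingFree Q' := by
  rw [singFree_iff_polar hQ']
  rw [singFree_iff_polar hQ] at hS
  intro v hv
  rcases hS (L v) (by simpa using hv) with h1 | ⟨w, hw⟩
  · left
    rw [h]
    exact mul_ne_zero hc h1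
  · right
    refine ⟨L.symm w, ?_⟩
    rw [h, h, h, map_add, LinearEquiv.apply_symm_apply]
    intro h2
    apply hw
    have h3 : c * MvPolynomial.eval (L v + w) Q =
        c * (MvPolynomial.eval (L v) Q + MvPolynomial.eval w Q) := by rw [h2]; ring
    exact mul_left_cancel₀ hc h3

/-- Invariance of `NondegQuad` under linear coordinate changes and nonzero scalars. -/
theorem nondegQuad_of_linear (Q Q' : Form m k 2) (L : (Fin (m + 1) → k) ≃ₗ[k] (Fin (m + 1) → k)) (c : k)
    (hc : c ≠ 0) (h : ∀ v, MvPolynomial.eval v Q'.1 = c * MvPolynomial.eval (L v) Q.1)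
    (hQ : NondegQuad k Q) : NondegQuad k Q' := by
  have : Infinite k := IsAlgClosed.instInfinite
  rw [nondegQuad_iff] at hQ ⊢
  refine ⟨fun h0 => hQ.1 ?_, singFree_of_linear ((MvPolynomial.mem_homogeneousSubmodule _ _).1 Q.2)
    ((MvPolynomial.mem_homogeneousSubmodule _ _).1 Q'.2) L c hc h hQ.2⟩
  refine MvPolynomial.funext fun v => ?_
  have h1 := h (L.symm v)
  rw [h0, map_zero, LinearEquiv.apply_symm_apply] at h1
  rw [map_zero]
  exact (mul_eq_zero.1 h1.symm).resolve_left hc

end Groth.Agent.Lefpen.H703.NondegQuadCrit
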