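import Groth.Agent.Lefpen.H705.ClosedPoint
import Groth.Agent.Sga4B.RegLocal

/-!
# Smoothness of relative dimension `m` can be checked at closed points

For `g : Z ⟶ Spec k` locally of finite type over an algebraically closed (perfect) field:

* `exists_nhd_smooth`: a closed point with regular local ring of dimension `m` has an open neighbourhood smooth of
  relative dimension `m`.
* `smoothOfRelativeDimension_iff`: `g` is smooth of relative dimension `m` iff all local rings at closed points are
  regular of dimension `m`.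
* `isEmpty_of_no_closed`: a scheme locally of finite type over a field without closed points is empty.
-/

set_option autoImplicit false
universe u

open CategoryTheory AlgebraicGeometry Limits TopologicalSpace Opposite

namespace Groth.Agent.Lefpen.H703.ClosedSmooth

open LefPen IsLocalRing Groth.Agent.Lefpen.H705.ClosedPoint

variable {k : Type u} [Field k] {Z : Scheme.{u}} (g : Z ⟶ Spec (CommRingCat.of k))

theorem exists_nhd_smooth [PerfectField k] [LocallyOfFiniteType g] (m : ℕ) (z : Z) (hz : IsClosed ({z} : Set Z))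
    (hreg : IsRegularLocalRing (Z.presheaf.stalk z)) (hdim : ringKrullDim (Z.presheaf.stalk z) = m) :
    ∃ V : Z.Opens, z ∈ V ∧ SmoothOfRelativeDimension m (V.ι ≫ g) := by
  obtain ⟨n, V, hV, hzV, hn⟩ := Groth.Agent.Sga4B.RegLocal.exists_standardSmooth g z hreg
  have h1 : SmoothOfRelativeDimension n (V.ι ≫ g) :=
    Groth.Agent.Sga4B.RegLocal.smoothOfRelativeDimension_of_le g V hV n hn V.ι
      (by rw [Scheme.Opens.range_ι])
  let z' : V := ⟨z, hzV⟩
  have hz' : IsClosed ({z'} : Set V) := by
    have : ({z'} : Set V) = V.ι ⁻¹' {z} := by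
      ext y
      simp only [Set.mem_singleton_iff, Set.mem_preimage]
      exact ⟨fun h => by rw [h]; rfl, fun h => Subtype.ext h⟩
    rw [this]
    exact hz.preimage V.ι.continuous
  have h2 := ringKrullDim_stalk (V.ι ≫ g) n z' hz'
  have h3 : ringKrullDim (V.toScheme.presheaf.stalk z') = ringKrullDim (Z.presheaf.stalk (V.ι z')) :=
    (ringKrullDim_eq_of_ringEquiv (asIso (V.ι.stalkMap z')).commRingCatIsoToRingEquiv).symm
  have h4 : V.ι z' = z := rfl
  rw [h4, hdim, h2] at h3
  have h5 : n = m := by exact_mod_cast h3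
  subst h5
  exact ⟨V, hzV, h1⟩

/-- An open subset containing all closed points is everything. -/
theorem opens_eq_top [LocallyOfFiniteType g] (W : Z.Opens) (h : ∀ z : Z, IsClosed ({z} : Set Z) → z ∈ W) :
    W = ⊤ := by
  have : JacobsonSpace Z := LocallyOfFiniteType.jacobsonSpace g
  have h1 : closure ((W : Set Z)ᶜ ∩ closedPoints Z) = (W : Set Z)ᶜ :=
    closure_inter_closedPoints W.isOpen.isClosed_compl
  have h2 : (W : Set Z)ᶜ ∩ closedPoints Z = ∅ := by
    rw [Set.eq_empty_iff_forall_notMem]
    rintro z ⟨h3, h4⟩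
    exact h3 (h z h4)
  rw [h2, closure_empty] at h1
  apply TopologicalSpace.Opens.ext
  rw [← compl_compl (W : Set Z), ← h1, Set.compl_empty]
  rfl

theorem isEmpty_of_no_closed [LocallyOfFiniteType g] (h : ∀ z : Z, ¬ IsClosed ({z} : Set Z)) : IsEmpty Z := by
  have h1 := opens_eq_top g ⊥ (fun z hz => absurd hz (h z))
  constructor
  intro z
  have : z ∈ (⊤ : Z.Opens) := trivial
  rw [← h1] at this
  exact this

theorem smoothOfRelativeDimension_of_closed [PerfectField k] [LocallyOfFiniteType g] (m : ℕ)
    (h : ∀ z : Z, IsClosed ({z} : Set Z) →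
      IsRegularLocalRing (Z.presheaf.stalk z) ∧ ringKrullDim (Z.presheaf.stalk z) = m) :
    SmoothOfRelativeDimension m g := by
  let ι := {V : Z.Opens // SmoothOfRelativeDimension m (V.ι ≫ g)}
  have htop : iSup (fun V : ι => V.1) = ⊤ := by
    apply opens_eq_top g
    intro z hz
    obtain ⟨V, hzV, hV⟩ := exists_nhd_smooth g m z hz (h z hz).1 (h z hz).2
    exact Opens.mem_iSup.2 ⟨⟨V, hV⟩, hzV⟩
  exact IsZariskiLocalAtSource.of_iSup_eq_top (P := @SmoothOfRelativeDimension m) (fun V : ι => V.1) htop
    fun V => V.2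

theorem smoothOfRelativeDimension_iff [PerfectField k] [LocallyOfFiniteType g] (m : ℕ) :
    SmoothOfRelativeDimension m g ↔ ∀ z : Z, IsClosed ({z} : Set Z) →
      IsRegularLocalRing (Z.presheaf.stalk z) ∧ ringKrullDim (Z.presheaf.stalk z) = m := by
  refine ⟨fun h z hz => ?_, smoothOfRelativeDimension_of_closed g m⟩
  have : Smooth g := SmoothOfRelativeDimension.smooth m g
  exact ⟨isRegularLocalRing_stalk g z, ringKrullDim_stalk g m z hz⟩

end Groth.Agent.Lefpen.H703.ClosedSmooth
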