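import Groth.Agent.Lefpen.H703.RegCrit
import Groth.Agent.Lefpen.H703.ClosedSmooth
import Groth.Agent.Lefpen.H705.SecIdeal

/-!
# Transversality of sections by forms in terms of the cotangent spaces at closed points

`X` smooth of relative dimension `n` over an algebraically closed field `k`, embedded by a closed immersion `i`.

* `LinIndepAt i x j hx H`: the local equations of `H_1, …, H_c` at `x` are linearly independent in `𝔪_x/𝔪_x²`.
* `transversal_range_iff`: `Transversal k n c` of the section by `H_1, …, H_c` iff for every closed point `x` of the section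
  the local equations are linearly independent in `𝔪_x/𝔪_x²`.
* `transversal_one_iff`, `transversal_two_iff`.
* `section_regular_iff`: the pointwise version.
-/

set_option autoImplicit false
universe u

open CategoryTheory AlgebraicGeometry Limits TopologicalSpace Opposite

namespace Groth.Agent.Lefpen.H703.TransCrit

open LefPen IsLocalRing Groth.Agent.Lefpen.H705.ClosedPoint Groth.Agent.Lefpen.H705.SecIdeal
open Groth.Agent.Lefpen.H703.ClosedSmooth Groth.Agent.Lefpen.H703.RegCrit

variable {k : Type u} [Field k] {r d : ℕ} {X : Scheme.{u}} (i : X ⟶ CohB1.ProjSpace r k)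

/-- The structure morphism of the embedded scheme. -/
noncomputable abbrev str : X ⟶ Spec (CommRingCat.of k) := i ≫ CohB1.ProjSpace.toSpec r k

/-- The local equations at `x` (in the chart `j`) of a finite family of forms are `k`-linearly independent modulo
`𝔪_x²`. -/
def LinIndepAt {c : ℕ} (x : X) (j : Fin (r + 1)) (hx : i x ∈ chart r k j) (H : Fin c → Form r k d) : Prop :=
  ∀ a : Fin c → k, (∑ l, toStalk k (str i) x (a l) * stalkEqn i j x hx (H l)) ∈
    maximalIdeal (X.presheaf.stalk x) ^ 2 → a = 0

instance locallyOfFiniteType_sec [LocallyOfFiniteType (str i)] (s : Set (Form r k d)) :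
    LocallyOfFiniteType (secToSpec i s) :=
  inferInstanceAs (LocallyOfFiniteType (secι i s ≫ str i))

theorem isClosed_secι (s : Set (Form r k d)) {y : Sec i s} (hy : IsClosed ({y} : Set (Sec i s))) :
    IsClosed ({secι i s y} : Set X) := by
  rw [← Set.image_singleton]
  exact (secι i s).isClosedEmbedding.isClosedMap _ hy

theorem isClosed_of_secι (s : Set (Form r k d)) {y : Sec i s} (hy : IsClosed ({secι i s y} : Set X)) :
    IsClosed ({y} : Set (Sec i s)) := by
  have h : ({y} : Set (Sec i s)) = secι i s ⁻¹' {secι i s y} := by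
    ext z
    simp only [Set.mem_singleton_iff, Set.mem_preimage]
    exact ⟨fun h => by rw [h], fun h => (secι i s).isClosedEmbedding.injective h⟩
  rw [h]
  exact hy.preimage (secι i s).continuous

theorem stalkEqn_mem (s : Set (Form r k d)) (y : Sec i s) (j : Fin (r + 1))
    (hy : i (secι i s y) ∈ chart r k j) (G : Form r k d) (hG : G ∈ s) :
    stalkEqn i j (secι i s y) hy G ∈ maximalIdeal (X.presheaf.stalk (secι i s y)) := by
  have h1 : stalkEqn i j (secι i s y) hy G ∈ RingHom.ker ((secι i s).stalkMap y).hom := by
    rw [ker_stalkMap_secι i s y j hy]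
    exact Ideal.subset_span ⟨G, hG, rfl⟩
  rw [mem_maximalIdeal, mem_nonunits_iff]
  intro hu
  have h2 := hu.map ((secι i s).stalkMap y).hom
  rw [(RingHom.mem_ker).1 h1] at h2
  exact not_isUnit_zero h2

variable [IsAlgClosed k] (n : ℕ) [SmoothOfRelativeDimension n (str i)]

/-- Pointwise criterion: at a closed point of the section, the section is regular of the expected dimension `n - c` iff
the local equations are independent in the cotangent space. -/
theorem section_regular_iff {c : ℕ} (H : Fin c → Form r k d) (y : Sec i (Set.range H))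
    (hy : IsClosed ({y} : Set (Sec i (Set.range H)))) (j : Fin (r + 1))
    (hj : i (secι i (Set.range H) y) ∈ chart r k j) :
    (IsRegularLocalRing ((Sec i (Set.range H)).presheaf.stalk y) ∧
      ringKrullDim ((Sec i (Set.range H)).presheaf.stalk y) + (c : ℕ) = n) ↔
      LinIndepAt i (secι i (Set.range H) y) j hj H := by
  have hsm : Smooth (str i) := SmoothOfRelativeDimension.smooth n _
  set x := secι i (Set.range H) y with hx
  have hxc : IsClosed ({x} : Set X) := isClosed_secι i _ hy
  have hreg : IsRegularLocalRing (X.presheaf.stalk x) := isRegularLocalRing_stalk (str i) x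
  have hdim : ringKrullDim (X.presheaf.stalk x) = n := ringKrullDim_stalk (str i) n x hxc
  let φ : X.presheaf.stalk x →+* (Sec i (Set.range H)).presheaf.stalk y :=
    ((secι i (Set.range H)).stalkMap y).hom
  have hφ : Function.Surjective φ := stalkMap_secι_surjective i _ y
  have hker : RingHom.ker φ = Ideal.span (Set.range fun l => stalkEqn i j x hj (H l)) := by
    have h1 := ker_stalkMap_secι i (Set.range H) y j hj
    rw [← Set.range_comp] at h1
    exact h1
  have hmem : ∀ l, stalkEqn i j x hj (H l) ∈ maximalIdeal (X.presheaf.stalk x) := fun l =>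
    stalkEqn_mem i (Set.range H) y j hj (H l) ⟨l, rfl⟩
  constructor
  · rintro ⟨h1, h2⟩ a ha
    funext l
    have h3 := isLinIndep_of_isRegularLocalRing_quotient (fun l => stalkEqn i j x hj (H l)) hmem φ hφ hker
      (by rw [h2, hdim]) (fun l => toStalk k (str i) x (a l)) ha l
    by_contra hne
    have hu : IsUnit (toStalk k (str i) x (a l)) := (isUnit_iff_ne_zero.2 hne).map _
    exact (mem_maximalIdeal _).1 h3 hu
  · intro hind
    have h1 := Groth.Agent.CalgB.RegQuot.isRegularLocalRing_quotient (P := X.presheaf.stalk x)
      (fun l => stalkEqn i j x hj (H l)) hmem ?_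
    · obtain ⟨h2, h3⟩ := h1
      let e : (X.presheaf.stalk x ⧸ Ideal.span (Set.range fun l => stalkEqn i j x hj (H l))) ≃+*
          (Sec i (Set.range H)).presheaf.stalk y :=
        (Ideal.quotEquivOfEq hker.symm).trans (RingHom.quotientKerEquivOfSurjective hφ)
      refine ⟨IsRegularLocalRing.of_ringEquiv e, ?_⟩
      rw [← ringKrullDim_eq_of_ringEquiv e, ← hdim, ← h3, Nat.card_eq_fintype_card, Fintype.card_fin]
    · intro a ha
      rw [finsum_eq_sum_of_fintype] at ha
      choose b hb using fun l => exists_sub_toStalk_mem (str i) x hxc (a l)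
      have h2 : (∑ l, toStalk k (str i) x (b l) * stalkEqn i j x hj (H l)) ∈
          maximalIdeal (X.presheaf.stalk x) ^ 2 := by
        have h3 : (∑ l, toStalk k (str i) x (b l) * stalkEqn i j x hj (H l)) =
            (∑ l, a l * stalkEqn i j x hj (H l)) -
              ∑ l, (a l - toStalk k (str i) x (b l)) * stalkEqn i j x hj (H l) := by
          rw [← Finset.sum_sub_distrib]
          refine Finset.sum_congr rfl fun l _ => ?_
          ring
        rw [h3]
        refine Ideal.sub_mem _ ha (Ideal.sum_mem _ fun l _ => ?_)
        rw [pow_two]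
        exact Ideal.mul_mem_mul (hb l) (hmem l)
      have h4 := hind b h2
      intro l
      have h5 := hb l
      rw [h4, Pi.zero_apply, map_zero, sub_zero] at h5
      exact h5

/-- **Transversality in terms of cotangent spaces at closed points**, for a finite family of forms. -/
theorem transversal_range_iff {c : ℕ} (H : Fin c → Form r k d) :
    Transversal k n c (secToSpec i (Set.range H)) ↔
      ∀ x : X, IsClosed ({x} : Set X) → ∀ (j : Fin (r + 1)) (hj : i x ∈ chart r k j),
        (∀ l, stalkEqn i j x hj (H l) ∈ maximalIdeal (X.presheaf.stalk x)) → LinIndepAt i x j hj H := by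
  have hsm : Smooth (str i) := SmoothOfRelativeDimension.smooth n _
  have hlft : LocallyOfFiniteType (str i) := inferInstance
  have hlfts : LocallyOfFiniteType (secToSpec i (Set.range H)) := inferInstance
  constructor
  · intro hT x hx j hj hmem
    obtain ⟨y, rfl⟩ := exists_sec_point i (Set.range H) j x hj (by rintro _ ⟨l, rfl⟩; exact hmem l)
    have hy := isClosed_of_secι i (Set.range H) hx
    rcases hT with ⟨hc, hs⟩ | ⟨hc, he⟩
    · refine (section_regular_iff i n H y hy j hj).1 ?_
      have h1 := (smoothOfRelativeDimension_iff (secToSpec i (Set.range H)) (n - c)).1 hs y hy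
      refine ⟨h1.1, ?_⟩
      rw [h1.2]
      have : n - c + c = n := Nat.sub_add_cancel hc
      exact_mod_cast this
    · exact (he.false y).elim
  · intro h
    have key : ∀ y : Sec i (Set.range H), IsClosed ({y} : Set (Sec i (Set.range H))) →
        (IsRegularLocalRing ((Sec i (Set.range H)).presheaf.stalk y) ∧
          ringKrullDim ((Sec i (Set.range H)).presheaf.stalk y) + (c : ℕ) = n) := by
      intro y hy
      obtain ⟨j, hj⟩ := Groth.Agent.PerfB.ProjSpaceCover.exists_mem_basicOpen_X r k (i (secι i (Set.range H) y))
      refine (section_regular_iff i n H y hy j hj).2 (h _ (isClosed_secι i _ hy) j hj fun l => ?_)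
      exact stalkEqn_mem i (Set.range H) y j hj (H l) ⟨l, rfl⟩
    by_cases hc : c ≤ n
    · left
      refine ⟨hc, smoothOfRelativeDimension_of_closed _ _ fun y hy => ?_⟩
      obtain ⟨h1, h2⟩ := key y hy
      refine ⟨h1, ?_⟩
      have h3 : ((n - c : ℕ) : WithBot ℕ∞) + (c : ℕ) = (n : ℕ) := by
        have : n - c + c = n := Nat.sub_add_cancel hc
        exact_mod_cast this
      rw [← h3] at h2
      exact (ENat.WithBot.add_natCast_cancel).1 h2
    · right
      push Not at hc
      refine ⟨hc, isEmpty_of_no_closed (secToSpec i (Set.range H)) fun y hy => ?_⟩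
      obtain ⟨h1, h2⟩ := key y hy
      have h4 : (0 : WithBot ℕ∞) ≤ ringKrullDim ((Sec i (Set.range H)).presheaf.stalk y) :=
        ringKrullDim_nonneg_of_nontrivial
      have h5 : ((c : ℕ) : WithBot ℕ∞) ≤ (n : ℕ) := by
        rw [← h2]
        calc ((c : ℕ) : WithBot ℕ∞) = 0 + (c : ℕ) := (zero_add _).symm
          _ ≤ _ := by gcongr
      have h6 : c ≤ n := by exact_mod_cast h5
      omega

/-- One form: the section is transversal iff the local equation is never in `𝔪_x²`. -/
theorem transversal_one_iff (H : Form r k d) :
    Transversal k n 1 (secToSpec i ({H} : Set (Form r k d))) ↔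
      ∀ x : X, IsClosed ({x} : Set X) → ∀ (j : Fin (r + 1)) (hj : i x ∈ chart r k j),
        stalkEqn i j x hj H ∉ maximalIdeal (X.presheaf.stalk x) ^ 2 := by
  have hr : Set.range (fun _ : Fin 1 => H) = {H} := Set.range_const
  rw [← hr, transversal_range_iff i n (fun _ : Fin 1 => H)]
  refine forall_congr' fun x => forall_congr' fun hx => forall_congr' fun j => forall_congr' fun hj => ?_
  simp only [LinIndepAt, Fin.sum_univ_one, forall_const]
  constructor
  · intro h hmem
    have h1 := h (Ideal.pow_le_self two_ne_zero hmem) (fun _ => 1) (by simpa using hmem)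
    have h2 := congrFun h1 0
    exact one_ne_zero h2
  · intro h hmem a ha
    by_contra hne
    apply h
    have ha0 : a 0 ≠ 0 := fun h0 => hne (funext fun l => by rw [Subsingleton.elim l 0]; exact h0)
    have h1 := Ideal.mul_mem_left (maximalIdeal (X.presheaf.stalk x) ^ 2) (toStalk k (str i) x (a 0)⁻¹) ha
    rwa [← mul_assoc, ← map_mul, inv_mul_cancel₀ ha0, map_one, one_mul] at h1

/-- Two forms. -/
theorem transversal_two_iff (F G : Form r k d) :
    Transversal k n 2 (secToSpec i ({F, G} : Set (Form r k d))) ↔
      ∀ x : X, IsClosed ({x} : Set X) → ∀ (j : Fin (r + 1)) (hj : i x ∈ chart r k j),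
        stalkEqn i j x hj F ∈ maximalIdeal (X.presheaf.stalk x) →
        stalkEqn i j x hj G ∈ maximalIdeal (X.presheaf.stalk x) →
        ∀ a b : k, toStalk k (str i) x a * stalkEqn i j x hj F + toStalk k (str i) x b * stalkEqn i j x hj G ∈
          maximalIdeal (X.presheaf.stalk x) ^ 2 → a = 0 ∧ b = 0 := by
  have hr : Set.range (![F, G]) = {F, G} := by
    ext z
    simp [or_comm, eq_comm]
  rw [← hr, transversal_range_iff i n ![F, G]]
  refine forall_congr' fun x => forall_congr' fun hx => forall_congr' fun j => forall_congr' fun hj => ?_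
  simp only [LinIndepAt, Fin.sum_univ_two, Fin.forall_fin_two, Matrix.cons_val_zero, Matrix.cons_val_one]
  constructor
  · intro h h1 h2 a b hab
    have h3 := h ⟨h1, h2⟩ ![a, b] (by simpa using hab)
    exact ⟨by simpa using congrFun h3 0, by simpa using congrFun h3 1⟩
  · rintro h ⟨h1, h2⟩ a ha
    obtain ⟨h3, h4⟩ := h h1 h2 (a 0) (a 1) ha
    funext l
    fin_cases l
    · exact h3
    · exact h4

end Groth.Agent.Lefpen.H703.TransCrit
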