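import Groth.Agent.Lefpen.H703.Elim

/-!
# Openness of the Lefschetz condition: the formal assembly

`isZOpen_isLefschetzPencil_of`: if transversality of the members, transversality of the base locus are Zariski-open
conditions, and the ordinary quadratic condition is relatively open among the non transversal forms, then the Lefschetz
pencils form a Zariski-open set of pairs of forms.
-/

set_option autoImplicit false

universe u

open CategoryTheory CategoryTheory.Limits AlgebraicGeometry

namespace Groth.Agent.Lefpen.H703.Assembly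

open LefPen Groth.Agent.Lefpen.H703.ZOpen Groth.Agent.Lefpen.H703.Elim

variable {k : Type u} [Field k]
variable {V : Type u} [AddCommGroup V] [Module k V]

/-- The linearly independent pairs form an open set. -/
theorem isZOpen_linearIndependent : IsZOpen k {p : V × V | LinearIndependent k ![p.1, p.2]} := by
  rintro ⟨x, y⟩ hxy
  -- choose functionals with nonvanishing minor
  have hxy' : LinearIndependent k ![x, y] := hxy
  have hx : x ≠ 0 := hxy'.ne_zero 0
  obtain ⟨l, hl⟩ : ∃ l : V →ₗ[k] k, l x ≠ 0 := by
    by_contra h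
    push Not at h
    exact hx ((Module.forall_dual_apply_eq_zero_iff k x).1 h)
  have hy : l x • y - l y • x ≠ 0 := by
    intro h
    have h2 := LinearIndependent.pair_iff.1 hxy' (- l y) (l x) (by
      rw [← h]; simp only [neg_smul]; abel)
    exact hl h2.2
  obtain ⟨m, hm⟩ : ∃ m : V →ₗ[k] k, m (l x • y - l y • x) ≠ 0 := by
    by_contra h
    push Not at h
    exact hy ((Module.forall_dual_apply_eq_zero_iff k _).1 h)
  refine ⟨fun p => l p.1 * m p.2 - l p.2 * m p.1, ?_, ?_, ?_⟩
  · refine pf_sub (pf_mul ?_ ?_) (pf_mul ?_ ?_)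
    · exact isPolyFun_linear' (l.comp (LinearMap.fst k V V))
    · exact isPolyFun_linear' (m.comp (LinearMap.snd k V V))
    · exact isPolyFun_linear' (l.comp (LinearMap.snd k V V))
    · exact isPolyFun_linear' (m.comp (LinearMap.fst k V V))
  · simpa using hm
  · rintro ⟨x', y'⟩ h
    change LinearIndependent k ![x', y']
    rw [LinearIndependent.pair_iff]
    intro s t hst
    have h1 : s * l x' + t * l y' = 0 := by
      have := congrArg l hst
      simpa using this
    have h2 : s * m x' + t * m y' = 0 := by
      have := congrArg m hst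
      simpa using this
    have h3 : s * (l x' * m y' - l y' * m x') = 0 := by
      linear_combination m y' * h1 - l y' * h2
    have h4 : t * (l x' * m y' - l y' * m x') = 0 := by
      linear_combination l x' * h2 - m x' * h1
    exact ⟨(mul_eq_zero.1 h3).resolve_right h, (mul_eq_zero.1 h4).resolve_right h⟩

/-- A nonempty open subset of a line is cofinite. -/
theorem finite_compl_line [Infinite k] {O : Set V} (hO : IsZOpen k O) (F G : V) :
    {c : k | F + c • G ∉ O}.Finite ↔ ∃ c : k, F + c • G ∈ O := by
  constructor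
  · intro h
    obtain ⟨c, hc⟩ := h.infinite_compl.nonempty
    exact ⟨c, by simpa using hc⟩
  · rintro ⟨c, hc⟩
    obtain ⟨f, hf, hf0, hfO⟩ := hO _ hc
    obtain ⟨P, hP⟩ := pf_line hf F (F + G)
    have hP' : ∀ t : k, P.eval t = f (F + t • G) := by
      intro t
      rw [hP]; congr 2; simp
    have hP0 : P ≠ 0 := by
      rintro rfl
      apply hf0
      rw [← hP', Polynomial.eval_zero]
    refine (Polynomial.finite_setOfPred_isRoot hP0).subset ?_
    intro t ht
    by_contra hne
    apply ht
    apply hfO
    rw [← hP']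
    exact hne

/-- The forms that are not in the bad set: transversal or with exactly one ordinary quadratic singularity. -/
theorem isZOpen_good {r : ℕ} {n d : ℕ} {X : Scheme.{u}} (i : X ⟶ CohB1.ProjSpace r k)
    (h1 : IsZOpen k {H : Form r k d | Transversal k n 1 (secToSpec i {H})})
    (h3 : ∀ H₀ : Form r k d, OneOrdQuad k n i H₀ → ∃ f : Form r k d → k, IsPolyFun k f ∧ f H₀ ≠ 0 ∧
      ∀ H : Form r k d, ¬ Transversal k n 1 (secToSpec i ({H} : Set (Form r k d))) → f H ≠ 0 →
        OneOrdQuad k n i H) :
    IsZOpen k {H : Form r k d | ¬ Transversal k n 1 (secToSpec i ({H} : Set (Form r k d))) →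
      OneOrdQuad k n i H} := by
  intro H hH
  by_cases hT : Transversal k n 1 (secToSpec i ({H} : Set (Form r k d)))
  · obtain ⟨f, hf, hf0, hfO⟩ := h1 H hT
    exact ⟨f, hf, hf0, fun w hw hn => absurd (hfO w hw) hn⟩
  · obtain ⟨f, hf, hf0, hfO⟩ := h3 H (hH hT)
    exact ⟨f, hf, hf0, fun w hw hn => hfO w hn hw⟩

/-- The assembly of S4021. -/
theorem isZOpen_isLefschetzPencil_of [IsAlgClosed k] {r : ℕ} {n d : ℕ} {X : Scheme.{u}}
    (i : X ⟶ CohB1.ProjSpace r k)
    (h1 : IsZOpen k {H : Form r k d | Transversal k n 1 (secToSpec i {H})})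
    (h2 : IsZOpen k {FG : Form r k d × Form r k d | Transversal k n 2 (secToSpec i {FG.1, FG.2})})
    (h3 : ∀ H₀ : Form r k d, OneOrdQuad k n i H₀ → ∃ f : Form r k d → k, IsPolyFun k f ∧ f H₀ ≠ 0 ∧
      ∀ H : Form r k d, ¬ Transversal k n 1 (secToSpec i ({H} : Set (Form r k d))) → f H ≠ 0 →
        OneOrdQuad k n i H)
    (hT : ∀ (c : k), c ≠ 0 → ∀ H : Form r k d, Transversal k n 1 (secToSpec i ({H} : Set (Form r k d))) →
      Transversal k n 1 (secToSpec i ({c • H} : Set (Form r k d))))
    (hQ : ∀ (c : k), c ≠ 0 → ∀ H : Form r k d, OneOrdQuad k n i H → OneOrdQuad k n i (c • H)) :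
    IsZOpen k {FG : Form r k d × Form r k d | IsLefschetzPencil k n i d FG.1 FG.2} := by
  have : Infinite k := IsAlgClosed.instInfinite
  -- the good forms are an open cone
  let O : Set (Form r k d) := {H | ¬ Transversal k n 1 (secToSpec i ({H} : Set (Form r k d))) →
      OneOrdQuad k n i H}
  have hO : IsZOpen k O := isZOpen_good i h1 h3
  have hOc : ∀ v, ∀ c : k, c ≠ 0 → v ∈ O → c • v ∈ O := by
    intro v c hc hv hn
    apply hQ c hc
    apply hv
    intro h
    exact hn (hT c hc v h)
  have hP := isZOpen_pencil hO hOc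
  have h4 : IsZOpen k {FG : Form r k d × Form r k d |
      ∃ c : k, Transversal k n 1 (secToSpec i ({FG.1 + c • FG.2} : Set (Form r k d)))} := by
    have h5 := isZOpen_iUnion (k := k) (V := Form r k d × Form r k d) (ι := k)
      (S := fun c => (fun FG : Form r k d × Form r k d => FG.1 + c • FG.2) ⁻¹'
        {H : Form r k d | Transversal k n 1 (secToSpec i {H})}) (fun c =>
        zo_preimage h1 (isPolyMap_linear (V := Form r k d × Form r k d) (W := Form r k d)
          (LinearMap.fst k (Form r k d) (Form r k d) + c • LinearMap.snd k (Form r k d) (Form r k d))))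
    refine (isZOpen_congr fun w => ?_).1 h5
    simp only [Set.mem_iUnion, Set.mem_preimage, Set.mem_ofPred_eq]
  refine (isZOpen_congr fun FG => ?_).1
    (zo_inter (zo_inter (isZOpen_linearIndependent (k := k) (V := Form r k d)) h2) (zo_inter h4 hP))
  obtain ⟨F, G⟩ := FG
  simp only [Set.mem_inter_iff, Set.mem_ofPred_eq]
  constructor
  · rintro ⟨⟨a1, a2⟩, a3, a4⟩
    refine ⟨a1, a2, (finite_compl_line h1 F G).2 a3, ?_⟩
    rintro H (hH | ⟨c, hc⟩) hn
    · rw [Set.mem_singleton_iff] at hH
      have := a4 0 1 (Or.inr one_ne_zero)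
      rw [zero_smul, zero_add, one_smul] at this
      rw [hH] at hn ⊢
      exact this hn
    · have := a4 1 c (Or.inl one_ne_zero)
      rw [one_smul] at this
      rw [← hc] at hn ⊢
      exact this hn
  · rintro ⟨a1, a2, a3, a4⟩
    refine ⟨⟨a1, a2⟩, (finite_compl_line h1 F G).1 a3, ?_⟩
    intro a b hab
    by_cases ha : a = 0
    · have hb : b ≠ 0 := by
        rcases hab with h | h
        · exact absurd ha h
        · exact h
      rw [ha, zero_smul, zero_add]
      exact hOc _ b hb (a4 G (Or.inl rfl))
    · have h6 : a • F + b • G = a • (F + (a⁻¹ * b) • G) := by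
        rw [smul_add, smul_smul, mul_inv_cancel_left₀ ha]
      rw [h6]
      exact hOc _ a ha (a4 _ (Or.inr ⟨a⁻¹ * b, rfl⟩))

end Groth.Agent.Lefpen.H703.Assembly
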