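import Groth.Agent.Lefpen.H703.ZOpen
import Mathlib.RingTheory.Nullstellensatz
import Mathlib.RingTheory.Polynomial.Basic
import Mathlib.RingTheory.MvPolynomial.Ideal
import Mathlib.LinearAlgebra.Matrix.Nondegenerate
import Mathlib.LinearAlgebra.Matrix.NonsingularInverse

/-!
# The main theorem of elimination theory

`isZOpen_forall_ne_zero`: let `k` be algebraically closed and `O ⊆ E × V` a Zariski-open set, `E` finite-dimensional,
stable under nonzero scalars in the first variable. Then `{w | ∀ v ≠ 0, (v, w) ∈ O}` is Zariski open in `V`.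
-/

set_option autoImplicit false

universe u

open MvPolynomial

namespace Groth.Agent.Lefpen.H703.Elim

open LefPen Groth.Agent.Lefpen.H703.ZOpen

variable {k : Type u} [Field k]
variable {V W : Type u} [AddCommGroup V] [Module k V] [AddCommGroup W] [Module k W]

/-- Evaluation of polynomial functions at a vector. -/
noncomputable def ev (k : Type u) [Field k] {V : Type u} [AddCommGroup V] [Module k V] (w : V) :
    PolyAlg k V →+* k :=
  (Pi.evalRingHom (fun _ : V => k) w).comp (PolyAlg k V).val.toRingHom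

@[simp] theorem ev_apply (w : V) (f : PolyAlg k V) : ev k w f = f.1 w := rfl

/-- A polynomial function on `k^m × V` is a polynomial in the first variable with coefficients polynomial
functions of the second. -/
theorem exists_mvPoly {m : ℕ} {F : (Fin m → k) × V → k} (hF : IsPolyFun k F) :
    ∃ P : MvPolynomial (Fin m) (PolyAlg k V), ∀ v w, F (v, w) = eval v (map (ev k w) P) := by
  refine pf_induction (p := fun F => ∃ P : MvPolynomial (Fin m) (PolyAlg k V), ∀ v w,
    F (v, w) = eval v (map (ev k w) P)) hF ?_ ?_ ?_ ?_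
  · intro l
    refine ⟨∑ i : Fin m, C (algebraMap k _ (l (Pi.single i 1, 0))) * X i +
      C ⟨fun w => l (0, w), isPolyFun_linear' (l.comp (LinearMap.inr k _ V))⟩, fun v w => ?_⟩
    have h1 : l (v, w) = l (v, 0) + l (0, w) := by
      rw [← map_add]; simp
    have h2 : l (v, (0 : V)) = ∑ i : Fin m, l (Pi.single i 1, 0) * v i := by
      have h3 : (v, (0 : V)) = ∑ i : Fin m, v i • ((Pi.single i 1 : Fin m → k), (0 : V)) := by
        ext j
        · rw [Prod.fst_sum, Finset.sum_apply]
          simp [Pi.single_apply]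
        · simp [Prod.snd_sum]
      rw [h3, map_sum]
      refine Finset.sum_congr rfl fun i _ => ?_
      rw [map_smul, smul_eq_mul, mul_comm]
    rw [h1, h2]
    simp only [map_add, map_sum, map_mul, map_C, map_X, eval_C, eval_X, ev_apply]
    rfl
  · intro c
    exact ⟨C (algebraMap k _ c), fun v w => by simp⟩
  · rintro F G _ _ ⟨P, hP⟩ ⟨Q, hQ⟩
    exact ⟨P + Q, fun v w => by rw [map_add, map_add, ← hP, ← hQ]⟩
  · rintro F G _ _ ⟨P, hP⟩ ⟨Q, hQ⟩
    exact ⟨P * Q, fun v w => by rw [map_mul, map_mul, ← hP, ← hQ]⟩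

theorem eval_smul_of_isHomogeneous {σ R : Type*} [CommRing R] {P : MvPolynomial σ R} {n : ℕ}
    (hP : P.IsHomogeneous n) (c : R) (v : σ → R) : eval (c • v) P = c ^ n * eval v P := by
  rw [eval_eq, eval_eq, Finset.mul_sum]
  refine Finset.sum_congr rfl fun d hd => ?_
  have h1 : d.degree = n := by
    have := hP (mem_support_iff.1 hd)
    rwa [Finsupp.degree_eq_weight_one]
  rw [← h1, Finsupp.degree_apply, ← Finset.prod_pow_eq_pow_sum, mul_left_comm, ← Finset.prod_mul_distrib]
  congr 1
  refine Finset.prod_congr rfl fun i _ => ?_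
  rw [Pi.smul_apply, smul_eq_mul, mul_pow]

theorem map_homogeneousComponent {σ R S : Type*} [CommRing R] [CommRing S] (f : R →+* S) (n : ℕ)
    (P : MvPolynomial σ R) : map f (homogeneousComponent n P) = homogeneousComponent n (map f P) := by
  ext d
  rw [coeff_map, coeff_homogeneousComponent, coeff_homogeneousComponent, coeff_map]
  split_ifs <;> simp

/-- If a polynomial vanishes on the punctured line through `v`, then all its homogeneous components vanish
at `v`. -/
theorem eval_homogeneousComponent_eq_zero [Infinite k] {m : ℕ} (P : MvPolynomial (Fin m) k) (v : Fin m → k)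
    (h : ∀ c : k, c ≠ 0 → eval (c • v) P = 0) (n : ℕ) : eval v (homogeneousComponent n P) = 0 := by
  classical
  let Q : Polynomial k := ∑ i ∈ Finset.range (P.totalDegree + 1),
    Polynomial.monomial i (eval v (homogeneousComponent i P))
  have hQ : ∀ c : k, Q.eval c = eval (c • v) P := by
    intro c
    conv_rhs => rw [← sum_homogeneousComponent P, map_sum]
    rw [Polynomial.eval_finsetSum]
    refine Finset.sum_congr rfl fun i _ => ?_
    rw [Polynomial.eval_monomial, eval_smul_of_isHomogeneous (homogeneousComponent_isHomogeneous i P),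
      mul_comm]
  have hQ0 : Polynomial.X * Q = 0 := by
    refine Polynomial.funext fun c => ?_
    rw [Polynomial.eval_mul, Polynomial.eval_X, Polynomial.eval_zero]
    by_cases hc : c = 0
    · rw [hc, zero_mul]
    · rw [hQ, h c hc, mul_zero]
  have hQ1 : Q = 0 := by
    rcases mul_eq_zero.1 hQ0 with h | h
    · exact absurd h Polynomial.X_ne_zero
    · exact h
  by_cases hn : n ∈ Finset.range (P.totalDegree + 1)
  · have h2 : Q.coeff n = 0 := by rw [hQ1, Polynomial.coeff_zero]
    rw [Polynomial.finsetSum_coeff, Finset.sum_eq_single n] at h2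
    · simpa using h2
    · intro j _ hj
      rw [Polynomial.coeff_monomial, if_neg hj]
    · intro h; exact absurd hn h
  · rw [Finset.mem_range, not_lt] at hn
    rw [homogeneousComponent_eq_zero _ _ (by omega), map_zero]

/-- The ideal of polynomials (in the projective variable) vanishing on a set. -/
def vanIdeal {m : ℕ} (Z : Set ((Fin m → k) × V)) : Ideal (MvPolynomial (Fin m) (PolyAlg k V)) where
  carrier := {P | ∀ v w, (v, w) ∈ Z → eval v (map (ev k w) P) = 0}
  zero_mem' := fun v w _ => by simp
  add_mem' := fun {P Q} hP hQ v w h => by rw [map_add, map_add, hP v w h, hQ v w h, add_zero]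
  smul_mem' := fun P Q hQ v w h => by rw [smul_eq_mul, map_mul, map_mul, hQ v w h, mul_zero]

theorem mem_vanIdeal {m : ℕ} {Z : Set ((Fin m → k) × V)} {P : MvPolynomial (Fin m) (PolyAlg k V)} :
    P ∈ vanIdeal Z ↔ ∀ v w, (v, w) ∈ Z → eval v (map (ev k w) P) = 0 := Iff.rfl

theorem homogeneousComponent_mem_vanIdeal [Infinite k] {m : ℕ} {Z : Set ((Fin m → k) × V)}
    (hZ : ∀ v w, ∀ c : k, c ≠ 0 → (v, w) ∈ Z → (c • v, w) ∈ Z)
    {P : MvPolynomial (Fin m) (PolyAlg k V)} (hP : P ∈ vanIdeal Z) (n : ℕ) :
    homogeneousComponent n P ∈ vanIdeal Z := by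
  intro v w hvw
  rw [map_homogeneousComponent]
  exact eval_homogeneousComponent_eq_zero _ v (fun c hc => hP _ _ (hZ v w c hc hvw)) n

/-- **Main theorem of elimination theory**, coordinate version. -/
theorem isZOpen_forall_ne_zero_fin [IsAlgClosed k] {m : ℕ} {O : Set ((Fin m → k) × V)} (hO : IsZOpen k O)
    (hcone : ∀ v w, ∀ c : k, c ≠ 0 → (v, w) ∈ O → (c • v, w) ∈ O) :
    IsZOpen k {w : V | ∀ v : Fin m → k, v ≠ 0 → (v, w) ∈ O} := by
  classical
  have : Infinite k := IsAlgClosed.instInfinite
  intro w₀ hw₀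
  have hcone' : ∀ v w, ∀ c : k, c ≠ 0 → (v, w) ∈ Oᶜ → (c • v, w) ∈ Oᶜ := by
    intro v w c hc hvw h
    apply hvw
    have := hcone _ w c⁻¹ (inv_ne_zero hc) h
    rwa [smul_smul, inv_mul_cancel₀ hc, one_smul] at this
  let f₀ : PolyAlg k V →+* k := ev k w₀
  have hf₀ : Function.Surjective f₀ := fun c => ⟨algebraMap k _ c, rfl⟩
  have hmap : Function.Surjective (map f₀ : MvPolynomial (Fin m) (PolyAlg k V) →+* _) :=
    map_surjective f₀ hf₀
  let J : Ideal (MvPolynomial (Fin m) k) := (vanIdeal Oᶜ).map (map f₀)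
  -- the zero locus of `J` is contained in the origin
  have hJ : ∀ v ∈ zeroLocus k J, v = 0 := by
    intro v hv
    by_contra hv0
    obtain ⟨F, hF, hF0, hFO⟩ := hO (v, w₀) (hw₀ v hv0)
    obtain ⟨P, hP⟩ := exists_mvPoly hF
    have hPmem : P ∈ vanIdeal Oᶜ := by
      intro v' w' h'
      rw [← hP]
      by_contra hne
      exact h' (hFO _ hne)
    have := hv _ (Ideal.mem_map_of_mem (map f₀) hPmem)
    rw [MvPolynomial.aeval_eq_eval] at this
    apply hF0
    rw [hP]
    exact this
  have hrad : idealOfVars (Fin m) k ≤ J.radical := by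
    rw [← vanishingIdeal_zeroLocus_eq_radical (K := k), idealOfVars, Ideal.span_le]
    rintro _ ⟨i, rfl⟩
    intro v hv
    rw [hJ v hv]
    simp
  obtain ⟨M, hM⟩ := Ideal.exists_pow_le_of_le_radical_of_fg hrad
    ((isNoetherianRing_iff_ideal_fg _).1 inferInstance _)
  -- the monomials of degree `M`
  let ι := {d : Fin m →₀ ℕ // d.degree = M}
  have : Finite ι := (Finsupp.finite_of_degree_eq M).to_subtype
  let _ : Fintype ι := Fintype.ofFinite ι
  have key : ∀ d : ι, ∃ P : MvPolynomial (Fin m) (PolyAlg k V), P ∈ vanIdeal Oᶜ ∧ P.IsHomogeneous M ∧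
      map f₀ P = monomial d.1 1 := by
    intro d
    have h1 : (monomial d.1 1 : MvPolynomial (Fin m) k) ∈ J := by
      apply hM
      rw [mem_pow_idealOfVars_iff]
      intro x hx
      rw [support_monomial, if_neg one_ne_zero, Finset.mem_singleton] at hx
      rw [hx, d.2]
    obtain ⟨P, hP, hPd⟩ := (Ideal.mem_map_iff_of_surjective _ hmap).1 h1
    refine ⟨homogeneousComponent M P, homogeneousComponent_mem_vanIdeal hcone' hP M,
      homogeneousComponent_isHomogeneous M P, ?_⟩
    rw [map_homogeneousComponent, hPd, homogeneousComponent_of_mem (n := M), if_pos rfl]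
    exact (mem_homogeneousSubmodule _ _).2 (isHomogeneous_monomial _ d.2)
  choose P hP1 hP2 hP3 using key
  refine ⟨fun w => (Matrix.of fun (a b : ι) => (coeff b.1 (P a)).1 w).det, ?_, ?_, ?_⟩
  · exact isPolyFun_det fun a b => (coeff b.1 (P a)).2
  · have : (Matrix.of fun (a b : ι) => (coeff b.1 (P a)).1 w₀) = 1 := by
      ext a b
      rw [Matrix.of_apply]
      have h1 : (coeff b.1 (P a)).1 w₀ = coeff b.1 (map f₀ (P a)) := by
        rw [coeff_map]; rfl
      rw [h1, hP3, coeff_monomial, Matrix.one_apply]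
      by_cases hab : a = b
      · rw [if_pos hab, if_pos (congrArg Subtype.val hab)]
      · rw [if_neg hab, if_neg (fun h => hab (Subtype.ext h))]
    change (Matrix.of fun (a b : ι) => (coeff b.1 (P a)).1 w₀).det ≠ 0
    rw [this, Matrix.det_one]
    exact one_ne_zero
  · intro w hw v hv
    by_contra hvw
    apply hv
    -- the vector of monomials of degree `M` is in the kernel
    have h1 : (Matrix.of fun (a b : ι) => (coeff b.1 (P a)).1 w).mulVec
        (fun b => ∏ i, v i ^ b.1 i) = 0 := by
      ext a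
      rw [Matrix.mulVec, dotProduct, Pi.zero_apply]
      have h2 := hP1 a v w hvw
      have h3 : (map (ev k w) (P a)).IsHomogeneous M := (hP2 a).map _
      rw [eval_eq'] at h2
      rw [← h2]
      symm
      have h4 : (map (ev k w) (P a)).support ⊆
          Finset.univ.map ⟨fun b : ι => b.1, Subtype.val_injective⟩ := by
        intro d hd
        have h5 : d.degree = M := by
          have := h3 (mem_support_iff.1 hd)
          rwa [Finsupp.degree_eq_weight_one]
        exact Finset.mem_map.2 ⟨⟨d, h5⟩, Finset.mem_univ _, rfl⟩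
      rw [Finset.sum_subset h4, Finset.sum_map]
      · refine Finset.sum_congr rfl fun b _ => ?_
        simp only [Function.Embedding.coeFn_mk, coeff_map, Matrix.of_apply]
        rfl
      · intro d _ hd
        rw [notMem_support_iff.1 hd, zero_mul]
    have h2 := Matrix.eq_zero_of_mulVec_eq_zero hw h1
    ext i
    have h3 := congrFun h2 ⟨Finsupp.single i M, by simp⟩
    simp only [Pi.zero_apply] at h3
    rw [Finset.prod_eq_single i (fun j _ hj => by
      rw [Finsupp.single_apply, if_neg (Ne.symm hj), pow_zero]) (fun h => absurd (Finset.mem_univ i) h)] at h3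
    rw [Finsupp.single_eq_same] at h3
    have hM0 : M ≠ 0 := by
      intro h
      rw [h, pow_zero] at h3
      exact one_ne_zero h3
    exact (pow_eq_zero_iff hM0).1 h3

/-- **Main theorem of elimination theory**: if `O ⊆ E × V` is Zariski open and conical in `E`, then the set of
`w` such that `(v, w) ∈ O` for all nonzero `v` is Zariski open. -/
theorem isZOpen_forall_ne_zero [IsAlgClosed k] {E : Type u} [AddCommGroup E] [Module k E]
    [FiniteDimensional k E] {O : Set (E × V)} (hO : IsZOpen k O)
    (hcone : ∀ v w, ∀ c : k, c ≠ 0 → (v, w) ∈ O → (c • v, w) ∈ O) :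
    IsZOpen k {w : V | ∀ v : E, v ≠ 0 → (v, w) ∈ O} := by
  let e : (Fin (Module.finrank k E) → k) ≃ₗ[k] E := (Module.finBasis k E).equivFun.symm
  have h1 : IsPolyMap k (fun p : (Fin (Module.finrank k E) → k) × V => ((e p.1, p.2) : E × V)) :=
    isPolyMap_linear (V := (Fin (Module.finrank k E) → k) × V) (W := E × V)
      (LinearMap.prodMap e.toLinearMap LinearMap.id)
  have h2 := isZOpen_forall_ne_zero_fin (zo_preimage hO h1) (fun v w c hc h => by
    have := hcone _ _ c hc h
    simp only [Set.mem_preimage, map_smul]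
    exact this)
  refine (isZOpen_congr fun w => ?_).1 h2
  constructor
  · intro h v hv
    have := h (e.symm v) (by simpa using hv)
    simpa using this
  · intro h v hv
    exact h (e v) (by simpa using hv)

/-- The punctured space is open. -/
theorem isZOpen_ne_zero {E : Type u} [AddCommGroup E] [Module k E] : IsZOpen k {v : E | v ≠ 0} := by
  intro v hv
  obtain ⟨l, hl⟩ : ∃ l : E →ₗ[k] k, l v ≠ 0 := by
    by_contra h
    push Not at h
    exact hv ((Module.forall_dual_apply_eq_zero_iff k v).1 h)
  refine ⟨l, isPolyFun_linear' l, hl, fun w hw h => hw ?_⟩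
  rw [h, map_zero]

/-- Variant of `isZOpen_forall_ne_zero` where only the part of `O` with nonzero first component matters. -/
theorem isZOpen_forall_ne_zero' [IsAlgClosed k] {E : Type u} [AddCommGroup E] [Module k E]
    [FiniteDimensional k E] {O : Set (E × V)}
    (hO : ∀ v w, v ≠ 0 → (v, w) ∈ O → ∃ F : E × V → k, IsPolyFun k F ∧ F (v, w) ≠ 0 ∧
      ∀ v' w', v' ≠ 0 → F (v', w') ≠ 0 → (v', w') ∈ O)
    (hcone : ∀ v w, ∀ c : k, c ≠ 0 → (v, w) ∈ O → (c • v, w) ∈ O) :
    IsZOpen k {w : V | ∀ v : E, v ≠ 0 → (v, w) ∈ O} := by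
  have h0 : IsZOpen k {p : E × V | p.1 ≠ 0} :=
    zo_preimage (isZOpen_ne_zero (k := k) (E := E)) isPolyMap_fst
  have h1 : IsZOpen k {p : E × V | p ∈ O ∧ p.1 ≠ 0} := by
    rintro ⟨v, w⟩ ⟨h, hv⟩
    obtain ⟨F, hF, hF0, hFO⟩ := hO v w hv h
    obtain ⟨G, hG, hG0, hGO⟩ := h0 (v, w) hv
    refine ⟨fun p => F p * G p, pf_mul hF hG, mul_ne_zero hF0 hG0, fun p hp => ?_⟩
    have h1 := hGO p (right_ne_zero_of_mul hp)
    exact ⟨hFO p.1 p.2 h1 (left_ne_zero_of_mul hp), h1⟩
  have h2 := isZOpen_forall_ne_zero h1 (fun v w c hc h => ⟨hcone v w c hc h.1, smul_ne_zero hc h.2⟩)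
  refine (isZOpen_congr fun w => ?_).1 h2
  exact ⟨fun h v hv => (h v hv).1, fun h v hv => ⟨h v hv, hv⟩⟩

/-- Pencils avoiding a closed cone form an open set: if `O ⊆ V` is Zariski open and stable under nonzero scalars, then
so is the set of pairs `(F, G)` all of whose nontrivial linear combinations are in `O`. -/
theorem isZOpen_pencil [IsAlgClosed k] {O : Set V} (hO : IsZOpen k O) (hcone : ∀ v, ∀ c : k, c ≠ 0 → v ∈ O → c • v ∈ O) :
    IsZOpen k {FG : V × V | ∀ a b : k, (a ≠ 0 ∨ b ≠ 0) → a • FG.1 + b • FG.2 ∈ O} := by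
  have h1 : IsPolyMap k (fun p : (k × k) × (V × V) => p.1.1 • p.2.1 + p.1.2 • p.2.2) := by
    refine pm_add (pm_smul ?_ ?_) (pm_smul ?_ ?_)
    · exact isPolyFun_linear' ((LinearMap.fst k k k).comp (LinearMap.fst k (k × k) (V × V)))
    · exact isPolyMap_linear ((LinearMap.fst k V V).comp (LinearMap.snd k (k × k) (V × V)))
    · exact isPolyFun_linear' ((LinearMap.snd k k k).comp (LinearMap.fst k (k × k) (V × V)))
    · exact isPolyMap_linear ((LinearMap.snd k V V).comp (LinearMap.snd k (k × k) (V × V)))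
  have h2 := isZOpen_forall_ne_zero (E := k × k) (zo_preimage hO h1) (fun v w c hc h => by
    have := hcone _ c hc h
    simp only [Set.mem_preimage]
    simp only [Prod.smul_fst, Prod.smul_snd, smul_eq_mul]
    rwa [smul_add, smul_smul, smul_smul] at this)
  refine (isZOpen_congr fun w => ?_).1 h2
  constructor
  · intro h a b hab
    exact h (a, b) (by
      intro h0
      rw [Prod.mk_eq_zero] at h0
      rcases hab with h | h
      · exact h h0.1
      · exact h h0.2)
  · rintro h ⟨a, b⟩ hv
    refine h a b ?_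
    by_contra h0
    push Not at h0
    exact hv (Prod.mk_eq_zero.2 h0)

end Groth.Agent.Lefpen.H703.Elim
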