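import Groth.Agent.CalgB.RegQuot
import Mathlib.Algebra.Module.SpanRank

/-!
# Regular quotients of regular local rings: the converse of `RegQuot.isRegularLocalRing_quotient`

If `P` is regular local and `P / (f_1, …, f_c)` is regular of dimension `dim P - c`, then `f_1, …, f_c` are linearly
independent in `𝔪/𝔪²`.
-/

set_option autoImplicit false

open IsLocalRing

namespace Groth.Agent.Lefpen.H703.RegCrit

variable {P : Type*} [CommRing P]

theorem isLinIndep_of_isRegularLocalRing_quotient [IsRegularLocalRing P] {c : ℕ} (f : Fin c → P)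
    (hf : ∀ i, f i ∈ maximalIdeal P) {B : Type*} [CommRing B] [IsRegularLocalRing B] (φ : P →+* B)
    (hφ : Function.Surjective φ) (hker : RingHom.ker φ = Ideal.span (Set.range f))
    (hdim : ringKrullDim B + (c : ℕ) = ringKrullDim P) (a : Fin c → P)
    (ha : (∑ i, a i * f i) ∈ maximalIdeal P ^ 2) (i₀ : Fin c) : a i₀ ∈ maximalIdeal P := by
  classical
  by_contra hne
  have hu : IsUnit (a i₀) := by
    by_contra h
    exact hne ((mem_maximalIdeal _).2 h)
  -- generators of the maximal ideal of the quotient
  let s := (maximalIdeal B).generators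
  have hsfin : s.Finite := Submodule.FG.finite_generators (IsNoetherian.noetherian _)
  have hscard : s.ncard = (maximalIdeal B).spanFinrank :=
    Submodule.FG.generators_ncard (IsNoetherian.noetherian _)
  have hsspan : Ideal.span s = maximalIdeal B := Submodule.span_generators _
  choose g hg using hφ
  let I' : Ideal P := Ideal.span (f '' {i | i ≠ i₀})
  let T : Ideal P := Ideal.span (g '' s) ⊔ I'
  have hφloc : IsLocalHom φ := IsLocalHom.of_surjective φ (fun b => ⟨g b, hg b⟩)
  have hmapm : (maximalIdeal B).comap φ = maximalIdeal P := by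
    exact ((IsLocalRing.local_hom_TFAE φ).out 0 4).1 hφloc
  have hI : f i₀ ∈ I' ⊔ maximalIdeal P ^ 2 := by
    obtain ⟨v, hv⟩ := hu.exists_left_inv
    have h1 : f i₀ = v * (∑ i, a i * f i) - ∑ i ∈ Finset.univ.erase i₀, (v * a i) * f i := by
      rw [← Finset.add_sum_erase Finset.univ _ (Finset.mem_univ i₀), mul_add, ← mul_assoc, hv, one_mul,
        Finset.mul_sum]
      simp only [mul_assoc]
      ring
    rw [h1]
    refine Ideal.sub_mem _ (Ideal.mem_sup_right (Ideal.mul_mem_left _ _ ha)) (Ideal.mem_sup_left ?_)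
    refine Ideal.sum_mem _ fun i hi => Ideal.mul_mem_left _ _ (Ideal.subset_span ⟨i, ?_, rfl⟩)
    exact (Finset.mem_erase.1 hi).1
  have hIle : Ideal.span (Set.range f) ≤ I' ⊔ maximalIdeal P ^ 2 := by
    rw [Ideal.span_le]
    rintro _ ⟨i, rfl⟩
    by_cases h : i = i₀
    · rw [h]; exact hI
    · exact Ideal.mem_sup_left (Ideal.subset_span ⟨i, h, rfl⟩)
  have hT : maximalIdeal P ≤ T := by
    refine Submodule.le_of_le_smul_of_le_jacobson_bot (I := maximalIdeal P)
      (IsNoetherian.noetherian _) (by rw [jacobson_eq_maximalIdeal]; exact bot_ne_top) ?_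
    intro x hx
    have h1 : φ x ∈ Ideal.span s := by
      rw [hsspan]
      rw [← hmapm] at hx
      exact hx
    have h2 : (Ideal.span (g '' s)).map φ = Ideal.span s := by
      rw [Ideal.map_span, ← Set.image_comp]
      congr 1
      rw [show (φ ∘ g) = id from funext hg, Set.image_id]
    rw [← h2] at h1
    obtain ⟨y, hy, hyx⟩ := (Ideal.mem_map_iff_of_surjective φ (fun b => ⟨g b, hg b⟩)).1 h1
    have h3 : x - y ∈ Ideal.span (Set.range f) := by
      rw [← hker, RingHom.mem_ker, map_sub, hyx, sub_self]
    have h4 := hIle h3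
    have h5 : x = y + (x - y) := by ring
    rw [h5]
    obtain ⟨p, hp, q, hq, hpq⟩ := Submodule.mem_sup.1 h4
    rw [← hpq, ← add_assoc]
    refine Submodule.add_mem_sup ?_ ?_
    · exact Submodule.add_mem_sup hy hp
    · rw [smul_eq_mul, ← pow_two]; exact hq
  have hTle : T ≤ maximalIdeal P := by
    refine sup_le ?_ ?_
    · rw [Ideal.span_le]
      rintro _ ⟨b, hb, rfl⟩
      have : φ (g b) ∈ maximalIdeal B := by
        rw [hg, ← hsspan]; exact Ideal.subset_span hb
      rw [← hmapm]; exact this
    · rw [Ideal.span_le]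
      rintro _ ⟨i, -, rfl⟩
      exact hf i
  have hTm : T = maximalIdeal P := le_antisymm hTle hT
  -- count generators
  have hfin1 : (g '' s ∪ f '' {i | i ≠ i₀}).Finite := (hsfin.image g).union (Set.toFinite _)
  have hcount : (maximalIdeal P).spanFinrank ≤ (maximalIdeal B).spanFinrank + (c - 1) := by
    rw [← hTm]
    have h1 : T = Ideal.span (g '' s ∪ f '' {i | i ≠ i₀}) := (Ideal.span_union _ _).symm
    rw [h1]
    refine (Submodule.spanFinrank_span_le_ncard_of_finite hfin1).trans ?_
    refine (Set.ncard_union_le _ _).trans ?_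
    refine add_le_add ?_ ?_
    · rw [← hscard]; exact Set.ncard_image_le hsfin
    · refine (Set.ncard_image_le (Set.toFinite _)).trans ?_
      have : {i : Fin c | i ≠ i₀} = ((Finset.univ.erase i₀ : Finset (Fin c)) : Set (Fin c)) := by
        ext i; simp
      rw [this, Set.ncard_coe_finset, Finset.card_erase_of_mem (Finset.mem_univ _), Finset.card_univ,
        Fintype.card_fin]
  have h1 := IsRegularLocalRing.spanFinrank_maximalIdeal (R := P)
  have h2 := IsRegularLocalRing.spanFinrank_maximalIdeal (R := B)
  rw [← h1, ← h2] at hdim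
  have h3 : (maximalIdeal B).spanFinrank + c = (maximalIdeal P).spanFinrank := by exact_mod_cast hdim
  have hc : 0 < c := i₀.pos
  omega

end Groth.Agent.Lefpen.H703.RegCrit
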