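import Groth.Prelude.Def_LefPen
import Mathlib.LinearAlgebra.Matrix.Determinant.Basic

/-!
# Polynomial functions and Zariski-open sets of vector spaces (`LefPen.IsPolyFun`, `LefPen.IsZOpen`)

Basic API: closure properties of polynomial functions, composition with polynomial maps, and
intersections, unions and preimages of Zariski-open sets.
-/

set_option autoImplicit false

universe u

namespace Groth.Agent.Lefpen.H703.ZOpen

open LefPen

variable {k : Type u} [Field k]
variable {V W : Type u} [AddCommGroup V] [Module k V] [AddCommGroup W] [Module k W]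

/-- The algebra of polynomial functions. -/
abbrev PolyAlg (k : Type u) [Field k] (V : Type u) [AddCommGroup V] [Module k V] :
    Subalgebra k (V → k) :=
  Algebra.adjoin k (Set.range (fun l : Module.Dual k V => (l : V → k)))

theorem mem_polyAlg {f : V → k} : f ∈ PolyAlg k V ↔ IsPolyFun k f := Iff.rfl

theorem isPolyFun_linear (l : Module.Dual k V) : IsPolyFun k (fun v => l v) :=
  Algebra.subset_adjoin ⟨l, rfl⟩

theorem isPolyFun_linear' (l : V →ₗ[k] k) : IsPolyFun k (⇑l) :=
  Algebra.subset_adjoin ⟨l, rfl⟩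

theorem isPolyFun_const (c : k) : IsPolyFun k (fun _ : V => c) :=
  (PolyAlg k V).algebraMap_mem c

theorem isPolyFun_zero : IsPolyFun k (fun _ : V => (0 : k)) := isPolyFun_const 0

theorem isPolyFun_one : IsPolyFun k (fun _ : V => (1 : k)) := isPolyFun_const 1

theorem pf_add {f g : V → k} (hf : IsPolyFun k f) (hg : IsPolyFun k g) :
    IsPolyFun k (fun v => f v + g v) :=
  (PolyAlg k V).add_mem hf hg

theorem pf_mul {f g : V → k} (hf : IsPolyFun k f) (hg : IsPolyFun k g) :
    IsPolyFun k (fun v => f v * g v) :=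
  (PolyAlg k V).mul_mem hf hg

theorem pf_neg {f : V → k} (hf : IsPolyFun k f) : IsPolyFun k (fun v => - f v) :=
  (PolyAlg k V).neg_mem hf

theorem pf_sub {f g : V → k} (hf : IsPolyFun k f) (hg : IsPolyFun k g) :
    IsPolyFun k (fun v => f v - g v) :=
  (PolyAlg k V).sub_mem hf hg

theorem pf_const_mul (c : k) {f : V → k} (hf : IsPolyFun k f) :
    IsPolyFun k (fun v => c * f v) :=
  pf_mul (isPolyFun_const c) hf

theorem pf_pow {f : V → k} (hf : IsPolyFun k f) (n : ℕ) :
    IsPolyFun k (fun v => f v ^ n) :=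
  (PolyAlg k V).pow_mem hf n

theorem pf_sum {ι : Type*} (s : Finset ι) {f : ι → V → k} (hf : ∀ i ∈ s, IsPolyFun k (f i)) :
    IsPolyFun k (fun v => ∑ i ∈ s, f i v) := by
  have h : (fun v => ∑ i ∈ s, f i v) = ∑ i ∈ s, f i := by
    ext v; rw [Finset.sum_apply]
  rw [h]
  exact (PolyAlg k V).sum_mem hf

theorem pf_prod {ι : Type*} (s : Finset ι) {f : ι → V → k} (hf : ∀ i ∈ s, IsPolyFun k (f i)) :
    IsPolyFun k (fun v => ∏ i ∈ s, f i v) := by
  have h : (fun v => ∏ i ∈ s, f i v) = ∏ i ∈ s, f i := by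
    ext v; rw [Finset.prod_apply]
  rw [h]
  exact (PolyAlg k V).prod_mem hf

/-- Induction principle for polynomial functions. -/
theorem pf_induction {p : (V → k) → Prop} {f : V → k} (hf : IsPolyFun k f)
    (hlin : ∀ l : V →ₗ[k] k, p ⇑l) (hconst : ∀ c : k, p (fun _ => c))
    (hadd : ∀ f g : V → k, IsPolyFun k f → IsPolyFun k g → p f → p g → p (fun v => f v + g v))
    (hmul : ∀ f g : V → k, IsPolyFun k f → IsPolyFun k g → p f → p g → p (fun v => f v * g v)) :
    p f := by
  refine Algebra.adjoin_induction (p := fun f _ => p f) ?_ ?_ ?_ ?_ hf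
  · rintro _ ⟨l, rfl⟩; exact hlin l
  · intro c; exact hconst c
  · intro f g hf hg; exact hadd f g hf hg
  · intro f g hf hg; exact hmul f g hf hg

/-- A map all whose linear coordinates are polynomial functions. -/
def IsPolyMap (k : Type u) [Field k] {V W : Type u} [AddCommGroup V] [Module k V] [AddCommGroup W]
    [Module k W] (φ : V → W) : Prop :=
  ∀ l : W →ₗ[k] k, IsPolyFun k (fun v => l (φ v))

theorem pf_comp {f : W → k} (hf : IsPolyFun k f) {φ : V → W} (hφ : IsPolyMap k φ) :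
    IsPolyFun k (fun v => f (φ v)) := by
  refine pf_induction (p := fun f => IsPolyFun k (fun v => f (φ v))) hf ?_ ?_ ?_ ?_
  · intro l; exact hφ l
  · intro c; exact isPolyFun_const c
  · intro f g _ _ hf hg; exact pf_add hf hg
  · intro f g _ _ hf hg; exact pf_mul hf hg

theorem isPolyMap_linear (φ : V →ₗ[k] W) : IsPolyMap k (⇑φ) := fun l =>
  isPolyFun_linear' (l.comp φ)

theorem isPolyMap_const (w : W) : IsPolyMap k (fun _ : V => w) := fun l => isPolyFun_const (l w)

theorem pm_add {φ ψ : V → W} (hφ : IsPolyMap k φ) (hψ : IsPolyMap k ψ) :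
    IsPolyMap k (fun v => φ v + ψ v) := fun l => by
  simp only [map_add]
  exact pf_add (hφ l) (hψ l)

theorem pm_sub {φ ψ : V → W} (hφ : IsPolyMap k φ) (hψ : IsPolyMap k ψ) :
    IsPolyMap k (fun v => φ v - ψ v) := fun l => by
  simp only [map_sub]
  exact pf_sub (hφ l) (hψ l)

theorem pm_smul {f : V → k} {φ : V → W} (hf : IsPolyFun k f) (hφ : IsPolyMap k φ) :
    IsPolyMap k (fun v => f v • φ v) := fun l => by
  simp only [map_smul, smul_eq_mul]
  exact pf_mul hf (hφ l)

theorem pm_comp {U : Type u} [AddCommGroup U] [Module k U] {φ : V → W} {ψ : U → V}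
    (hφ : IsPolyMap k φ) (hψ : IsPolyMap k ψ) : IsPolyMap k (fun x => φ (ψ x)) := fun l =>
  pf_comp (f := fun v => l (φ v)) (hφ l) hψ

theorem pm_prodMk {W' : Type u} [AddCommGroup W'] [Module k W'] {φ : V → W} {ψ : V → W'}
    (hφ : IsPolyMap k φ) (hψ : IsPolyMap k ψ) : IsPolyMap k (fun v => (φ v, ψ v)) := fun l => by
  have h : (fun v => l (φ v, ψ v)) =
      fun v => (l.comp (LinearMap.inl k W W')) (φ v) + (l.comp (LinearMap.inr k W W')) (ψ v) := by
    ext v
    rw [LinearMap.comp_apply, LinearMap.comp_apply, ← map_add]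
    simp
  rw [h]
  exact pf_add (hφ _) (hψ _)

theorem isPolyMap_fst : IsPolyMap k (fun p : V × W => p.1) := isPolyMap_linear (LinearMap.fst k V W)

theorem isPolyMap_snd : IsPolyMap k (fun p : V × W => p.2) := isPolyMap_linear (LinearMap.snd k V W)

theorem isPolyMap_id : IsPolyMap k (fun p : V => p) := isPolyMap_linear LinearMap.id

theorem isPolyMap_iff_isPolyFun {f : V → k} : IsPolyMap k f ↔ IsPolyFun k f := by
  refine ⟨fun h => h LinearMap.id, fun h l => ?_⟩
  have : (fun v => l (f v)) = fun v => l 1 * f v := by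
    ext v
    have := l.map_smul (f v) 1
    rw [smul_eq_mul, mul_one, smul_eq_mul] at this
    rw [this, mul_comm]
  rw [this]
  exact pf_const_mul _ h

theorem isPolyMap_pi {ι : Type} [Finite ι] {φ : V → ι → k} :
    IsPolyMap k φ ↔ ∀ i, IsPolyFun k (fun v => φ v i) := by
  classical
  cases nonempty_fintype ι
  refine ⟨fun h i => h (LinearMap.proj i), fun h l => ?_⟩
  have : (fun v => l (φ v)) = fun v => ∑ i, l (Pi.single i 1) * φ v i := by
    ext v
    conv_lhs => rw [← Finset.univ_sum_single (φ v), map_sum]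
    refine Finset.sum_congr rfl fun i _ => ?_
    have h1 : (Pi.single i (φ v i) : ι → k) = φ v i • Pi.single i 1 := by
      rw [← Pi.single_smul, smul_eq_mul, mul_one]
    rw [h1, map_smul, smul_eq_mul, mul_comm]
  rw [this]
  exact pf_sum _ fun i _ => pf_const_mul _ (h i)

/-- The determinant of a matrix of polynomial functions is a polynomial function. -/
theorem isPolyFun_det {ι : Type*} [Fintype ι] [DecidableEq ι] {M : V → Matrix ι ι k}
    (hM : ∀ i j, IsPolyFun k (fun v => M v i j)) : IsPolyFun k (fun v => (M v).det) := by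
  have h : (fun v => (M v).det) =
      fun v => ∑ σ : Equiv.Perm ι, ((Equiv.Perm.sign σ : ℤ) : k) * ∏ i, M v (σ i) i := by
    ext v
    rw [Matrix.det_apply]
    refine Finset.sum_congr rfl fun σ _ => ?_
    rw [Units.smul_def, zsmul_eq_mul]
  rw [h]
  exact pf_sum _ fun σ _ => pf_const_mul _ (pf_prod _ fun i _ => hM _ _)

theorem isPolyFun_eval {σ : Type*} (P : MvPolynomial σ k) {x : V → σ → k}
    (hx : ∀ i, IsPolyFun k (fun v => x v i)) : IsPolyFun k (fun v => MvPolynomial.eval (x v) P) := by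
  induction P using MvPolynomial.induction_on with
  | C a => simpa using isPolyFun_const a
  | add p q hp hq => simpa using pf_add hp hq
  | mul_X p i hp => simpa using pf_mul hp (hx i)

theorem isPolyFun_aeval {σ : Type*} (P : MvPolynomial σ k) {x : V → σ → k}
    (hx : ∀ i, IsPolyFun k (fun v => x v i)) : IsPolyFun k (fun v => MvPolynomial.aeval (x v) P) := by
  simpa [MvPolynomial.aeval_eq_eval] using isPolyFun_eval P hx

/-! ### Zariski-open sets -/

theorem isZOpen_univ : IsZOpen k (Set.univ : Set V) := fun _ _ =>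
  ⟨fun _ => 1, isPolyFun_one, one_ne_zero, fun _ _ => trivial⟩

theorem isZOpen_empty : IsZOpen k (∅ : Set V) := fun _ h => h.elim

theorem isZOpen_basic {f : V → k} (hf : IsPolyFun k f) : IsZOpen k {v : V | f v ≠ 0} :=
  fun _ hv => ⟨f, hf, hv, fun _ hw => hw⟩

theorem zo_inter {S T : Set V} (hS : IsZOpen k S) (hT : IsZOpen k T) : IsZOpen k (S ∩ T) := by
  rintro v ⟨h1, h2⟩
  obtain ⟨f, hf, hfv, hfS⟩ := hS v h1
  obtain ⟨g, hg, hgv, hgT⟩ := hT v h2
  refine ⟨fun w => f w * g w, pf_mul hf hg, mul_ne_zero hfv hgv, fun w hw => ?_⟩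
  exact ⟨hfS w (left_ne_zero_of_mul hw), hgT w (right_ne_zero_of_mul hw)⟩

theorem zo_union {S T : Set V} (hS : IsZOpen k S) (hT : IsZOpen k T) : IsZOpen k (S ∪ T) := by
  rintro v (h | h)
  · obtain ⟨f, hf, hfv, hfS⟩ := hS v h
    exact ⟨f, hf, hfv, fun w hw => Or.inl (hfS w hw)⟩
  · obtain ⟨f, hf, hfv, hfS⟩ := hT v h
    exact ⟨f, hf, hfv, fun w hw => Or.inr (hfS w hw)⟩

theorem isZOpen_iUnion {ι : Sort*} {S : ι → Set V} (hS : ∀ i, IsZOpen k (S i)) :
    IsZOpen k (⋃ i, S i) := by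
  intro v hv
  obtain ⟨i, hi⟩ := Set.mem_iUnion.1 hv
  obtain ⟨f, hf, hfv, hfS⟩ := hS i v hi
  exact ⟨f, hf, hfv, fun w hw => Set.mem_iUnion.2 ⟨i, hfS w hw⟩⟩

theorem isZOpen_iInter {ι : Type*} [Finite ι] {S : ι → Set V} (hS : ∀ i, IsZOpen k (S i)) :
    IsZOpen k (⋂ i, S i) := by
  classical
  cases nonempty_fintype ι
  intro v hv
  rw [Set.mem_iInter] at hv
  choose f hf hfv hfS using fun i => hS i v (hv i)
  refine ⟨fun w => ∏ i, f i w, pf_prod _ fun i _ => hf i, ?_, fun w hw => ?_⟩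
  · exact Finset.prod_ne_zero_iff.2 fun i _ => hfv i
  · exact Set.mem_iInter.2 fun i => hfS i w (Finset.prod_ne_zero_iff.1 hw i (Finset.mem_univ i))

theorem isZOpen_biInter_finset {ι : Type*} (s : Finset ι) {S : ι → Set V}
    (hS : ∀ i ∈ s, IsZOpen k (S i)) : IsZOpen k (⋂ i ∈ s, S i) := by
  classical
  intro v hv
  simp only [Set.mem_iInter] at hv
  choose f hf hfv hfS using fun i : s => hS i.1 i.2 v (hv i.1 i.2)
  refine ⟨fun w => ∏ i : s, f i w, pf_prod _ fun i _ => hf i, ?_, fun w hw => ?_⟩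
  · exact Finset.prod_ne_zero_iff.2 fun i _ => hfv i
  · simp only [Set.mem_iInter]
    intro i hi
    exact hfS ⟨i, hi⟩ w (Finset.prod_ne_zero_iff.1 hw ⟨i, hi⟩ (Finset.mem_univ _))

theorem zo_preimage {S : Set W} (hS : IsZOpen k S) {φ : V → W} (hφ : IsPolyMap k φ) :
    IsZOpen k (φ ⁻¹' S) := by
  intro v hv
  obtain ⟨f, hf, hfv, hfS⟩ := hS (φ v) hv
  exact ⟨fun w => f (φ w), pf_comp hf hφ, hfv, fun w hw => hfS _ hw⟩

theorem isZOpen_congr {S T : Set V} (h : ∀ v, v ∈ S ↔ v ∈ T) : IsZOpen k S ↔ IsZOpen k T := by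
  rw [Set.ext h]

/-- Local criterion: a set is open as soon as every point has an open neighbourhood inside it. -/
theorem isZOpen_of_local {S : Set V} (h : ∀ v ∈ S, ∃ T : Set V, IsZOpen k T ∧ v ∈ T ∧ T ⊆ S) :
    IsZOpen k S := by
  intro v hv
  obtain ⟨T, hT, hvT, hTS⟩ := h v hv
  obtain ⟨f, hf, hfv, hfT⟩ := hT v hvT
  exact ⟨f, hf, hfv, fun w hw => hTS (hfT w hw)⟩

/-- The complement of the common zero locus of a family of polynomial functions. -/
theorem isZOpen_compl_zeros {ι : Sort*} {f : ι → V → k} (hf : ∀ i, IsPolyFun k (f i)) :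
    IsZOpen k {v : V | ∃ i, f i v ≠ 0} := by
  rintro v ⟨i, hi⟩
  exact ⟨f i, hf i, hi, fun w hw => ⟨i, hw⟩⟩

/-- Over an infinite field, nonempty open sets of a vector space meet. -/
theorem pf_line [Infinite k] {f : V → k} (hf : IsPolyFun k f) (v w : V) :
    ∃ P : Polynomial k, ∀ t : k, P.eval t = f (v + t • (w - v)) := by
  refine pf_induction (p := fun f => ∃ P : Polynomial k, ∀ t : k, P.eval t = f (v + t • (w - v)))
    hf ?_ ?_ ?_ ?_
  · intro l
    refine ⟨Polynomial.C (l v) + Polynomial.X * Polynomial.C (l (w - v)), fun t => ?_⟩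
    simp
  · intro c
    exact ⟨Polynomial.C c, fun t => by simp⟩
  · rintro f g _ _ ⟨P, hP⟩ ⟨Q, hQ⟩
    exact ⟨P + Q, fun t => by rw [Polynomial.eval_add, hP, hQ]⟩
  · rintro f g _ _ ⟨P, hP⟩ ⟨Q, hQ⟩
    exact ⟨P * Q, fun t => by rw [Polynomial.eval_mul, hP, hQ]⟩

/-- The product of two not identically zero polynomial functions over an infinite field is not identically zero. -/
theorem exists_mul_ne_zero [Infinite k] {f g : V → k} (hf : IsPolyFun k f) (hg : IsPolyFun k g)
    (hf0 : ∃ v, f v ≠ 0) (hg0 : ∃ v, g v ≠ 0) : ∃ v, f v * g v ≠ 0 := by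
  obtain ⟨v, hv⟩ := hf0
  obtain ⟨w, hw⟩ := hg0
  obtain ⟨P, hP⟩ := pf_line hf v w
  obtain ⟨Q, hQ⟩ := pf_line hg v w
  have hP0 : P ≠ 0 := by
    rintro rfl
    apply hv
    have := hP 0
    simpa using this.symm
  have hQ0 : Q ≠ 0 := by
    rintro rfl
    apply hw
    have := hQ 1
    simpa using this.symm
  have hPQ : P * Q ≠ 0 := mul_ne_zero hP0 hQ0
  by_contra hcon
  push Not at hcon
  apply hPQ
  refine Polynomial.funext fun t => ?_
  rw [Polynomial.eval_mul, hP, hQ, Polynomial.eval_zero]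
  exact hcon _

end Groth.Agent.Lefpen.H703.ZOpen
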